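import Groth.Agent.ProjTwist.Zero
import Groth.Agent.ProjTwistLib.Mul
import Groth.Agent.CMRegLib.Linear

/-!
# Morphisms `O(-1) ⟶ O` are linear forms
-/

set_option autoImplicit false
set_option linter.style.haveILetI false
set_option backward.isDefEq.respectTransparency false

universe u

open CategoryTheory TopologicalSpace AlgebraicGeometry Opposite
open Groth.Agent.ProjTwist Groth.Agent.CohBase.PS

set_option maxHeartbeats 1000000

noncomputable section

namespace Groth.Agent.ENLib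

variable {k : Type u} [Field k] {r : ℕ}

local notation "𝒜" => CohB1.polyGrading r k

/-- The open where the `i`th coordinate is invertible. -/
def chartU (k : Type u) [Field k] (r : ℕ) (i : Fin (r + 1)) : (Proj (CohB1.polyGrading r k)).Opens :=
  Proj.basicOpen (CohB1.polyGrading r k) (xPow r k i 1).1

theorem exists_mem_chartU (x : Proj 𝒜) : ∃ i, x ∈ chartU k r i := by
  have hcov : ⨆ i : Fin (r + 1), Proj.basicOpen 𝒜 (xPow r k i 1).1 = ⊤ := by
    refine top_le_iff.1 ((top_le_iSup_U r k).trans (iSup_le fun a => le_iSup_of_le a.down ?_))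
    show Proj.basicOpen 𝒜 (MvPolynomial.X a.down) ≤ Proj.basicOpen 𝒜 (MvPolynomial.X a.down ^ 1)
    rw [pow_one]
  exact Opens.mem_iSup.1 (show x ∈ ⨆ i, chartU k r i from hcov ▸ trivial)

theorem le_basicOpen_one {V : (Proj 𝒜).Opens} :
    V ≤ Proj.basicOpen 𝒜 ((⟨1, SetLike.GradedOne.one_mem⟩ : 𝒜 0) : MvPolynomial (Fin (r + 1)) k) := by
  rw [Proj.basicOpen_one]; exact le_top

/-- The frame `1 / x_i` of `O(-1)`. -/
def invX (i : Fin (r + 1)) {V : (Proj 𝒜).Opens} (hV : V ≤ chartU k r i) : Γ(Twist.twist 𝒜 (-1), V) :=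
  ProjTwistLib.frac 𝒜 (⟨1, SetLike.GradedOne.one_mem⟩ : 𝒜 0) (xPow r k i 1) (-1) (by norm_num) hV

theorem mk_mul_mk_self {x : Proj 𝒜} (a : MvPolynomial (Fin (r + 1)) k)
    (ha : a ∉ x.asHomogeneousIdeal) (h1 : (1 : MvPolynomial (Fin (r + 1)) k) ∉ x.asHomogeneousIdeal) :
    (Localization.mk a ⟨1, h1⟩ * Localization.mk 1 ⟨a, ha⟩ : Twist.Loc 𝒜 x) = 1 := by
  rw [Localization.mk_mul]
  refine (Localization.mk_eq_mk_iff.2 (Localization.r_iff_exists.2 ⟨1, ?_⟩)).trans Localization.mk_one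
  simp

theorem one_notMem (x : Proj 𝒜) : (1 : MvPolynomial (Fin (r + 1)) k) ∉ x.asHomogeneousIdeal :=
  fun h => x.isPrime.ne_top ((Ideal.eq_top_iff_one _).mpr h)

theorem app_res {X : Scheme.{u}} {F G : X.Modules} (f : F ⟶ G) {U V : X.Opens} (h : V ≤ U) (s : Γ(F, U)) :
    G.presheaf.map (homOfLE h).op (f.app U s) = f.app V (F.presheaf.map (homOfLE h).op s) :=
  (NatTrans.naturality_apply f.mapPresheaf (homOfLE h).op s).symm

/-- A morphism `O(-1) ⟶ O` is multiplication by a linear form. -/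
theorem exists_linear (ψ : Twist.twist 𝒜 (-1) ⟶ Coh.structureModule (Proj 𝒜)) :
    ∃ p : 𝒜 1, ∀ (V : (Proj 𝒜).Opens) (v : Γ(Twist.twist 𝒜 (-1), V)) (x : V),
      valAt ((ProjCoh.unitToTwist 𝒜).app V (ψ.app V v)) x =
        Localization.mk p.1 ⟨1, one_notMem x.1⟩ * valAt v x := by
  classical
  let g : ∀ i, Γ(Twist.twist 𝒜 0, chartU k r i) := fun i =>
    (ProjCoh.unitToTwist 𝒜).app _ (ψ.app _ (invX i le_rfl))
  let σ : ∀ i, Γ(Twist.twist 𝒜 1, chartU k r i) := fun i =>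
    mulFrac 𝒜 (xPow r k i 1) (⟨1, SetLike.GradedOne.one_mem⟩ : 𝒜 0) 0 1 (by norm_num) le_basicOpen_one (g i)
  have key : ∀ (i : Fin (r + 1)) (V : (Proj 𝒜).Opens) (v : Γ(Twist.twist 𝒜 (-1), V)) (x : V)
      (hx : x.1 ∈ chartU k r i),
      valAt ((ProjCoh.unitToTwist 𝒜).app V (ψ.app V v)) x = valAt (σ i) ⟨x.1, hx⟩ * valAt v x := by
    intro i V v x hx
    let W := V ⊓ chartU k r i
    have hWV : W ≤ V := inf_le_left
    have hWi : W ≤ chartU k r i := inf_le_right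
    let v' := (Twist.twist 𝒜 (-1)).presheaf.map (homOfLE hWV).op v
    obtain ⟨c, hc⟩ : ∃ c : Γ(Proj 𝒜, W), (ProjCoh.unitToTwist 𝒜).app W c = _ := (ProjCoh.unitToTwist_bijective W).2
      (mulFrac 𝒜 (xPow r k i 1) (⟨1, SetLike.GradedOne.one_mem⟩ : 𝒜 0) (-1) 0 (by norm_num) le_basicOpen_one v')
    have hv : c • invX i hWi = v' := by
      refine sect_ext fun y => ?_
      rw [valAt_smul, invX, ProjTwistLib.valAt_frac, ← ProjTwistLib.valAt_unit, hc, valAt_mulFrac]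
      rw [mul_right_comm, mk_mul_mk_self, one_mul]
    have h1 : (Twist.twist 𝒜 0).presheaf.map (homOfLE hWV).op ((ProjCoh.unitToTwist 𝒜).app V (ψ.app V v)) =
        c • (Twist.twist 𝒜 0).presheaf.map (homOfLE hWi).op (g i) := by
      rw [app_res, app_res]
      show (ProjCoh.unitToTwist 𝒜).app W (ψ.app W v') = _
      rw [← hv, Scheme.Modules.Hom.app_smul, Scheme.Modules.Hom.app_smul]
      refine congrArg (c • ·) ?_
      simp only [g]
      rw [app_res, app_res]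
      rfl
    have h2 := congrArg (fun f => valAt f (⟨x.1, x.2, hx⟩ : W)) h1
    simp only [valAt_res, valAt_smul] at h2
    refine h2.trans ?_
    rw [← ProjTwistLib.valAt_unit, hc, valAt_mulFrac]
    simp only [v', σ, valAt_res, valAt_mulFrac]
    ring
  have agree : ∀ (i j : Fin (r + 1)) (x : Proj 𝒜) (hi : x ∈ chartU k r i) (hj : x ∈ chartU k r j),
      valAt (σ i) ⟨x, hi⟩ = valAt (σ j) ⟨x, hj⟩ := by
    intro i j x hi hj
    have h := key i _ (invX j le_rfl) ⟨x, hj⟩ hi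
    rw [invX, ProjTwistLib.valAt_frac] at h
    refine Eq.trans ?_ (valAt_mulFrac _ _ _ _ _ _ (g j) ⟨x, hj⟩).symm
    rw [show valAt (g j) ⟨x, hj⟩ = valAt (σ i) ⟨x, hi⟩ * _ from h,
      mul_comm (valAt (σ i) ⟨x, hi⟩), ← mul_assoc, mk_mul_mk_self, one_mul]
  choose ci hci using exists_mem_chartU (k := k) (r := r)
  let f : Γ(Twist.twist 𝒜 1, ⊤) :=
    (⟨fun x => ⟨valAt (σ (ci x.1)) ⟨x.1, hci x.1⟩, ((σ (ci x.1) : Twist.sectN 1 (op (chartU k r (ci x.1)))).1 ⟨x.1, hci x.1⟩).2⟩,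
      fun x => by
        obtain ⟨W, hW, iW, a, b, num, den, nin, hd, hw⟩ :=
          (σ (ci x.1) : Twist.sectN 1 (op (chartU k r (ci x.1)))).2 ⟨x.1, hci x.1⟩
        refine ⟨W, hW, homOfLE le_top, a, b, num, den, nin, hd, fun y => ?_⟩
        exact (agree _ _ y.1 (hci y.1) (iW y).2).trans (hw y)⟩ : Twist.sectN 1 (op (⊤ : (Proj 𝒜).Opens)))
  obtain ⟨p, hp⟩ := (polySec_bijective r k 1).2 f
  refine ⟨p, fun V v x => ?_⟩
  rw [key (ci x.1) V v x (hci x.1)]
  exact congrArg (· * valAt v x) (congrArg (fun s => valAt s (⟨x.1, trivial⟩ : (⊤ : (Proj 𝒜).Opens))) hp).symm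

end Groth.Agent.ENLib
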