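import Groth.Agent.ENLib.Graded
import Groth.Agent.ENLib.Hom
import Groth.Agent.GrTildeLib.Twist
import Groth.Agent.FittSheafLib.Free
import Groth.Agent.HilbObsLib.Ideal
import Groth.Agent.IdealStalkLib.Comap
import Groth.Agent.CMRegLib.Res
import Groth.Agent.H1ZeroLib.Koszul

/-!
# The Fitting ideal of a matrix of linear forms and the image of the augmentation
-/

set_option autoImplicit false
set_option linter.style.haveILetI false
set_option backward.isDefEq.respectTransparency false
set_option maxHeartbeats 1000000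

universe u

open CategoryTheory CategoryTheory.Limits TopologicalSpace AlgebraicGeometry Opposite
open Groth.Agent.PullbackMod Groth.Agent.DCohLib Groth.Agent.ParaFLib Groth.Agent.ProjTwist

noncomputable section

namespace Groth.Agent.ENLib

variable {k : Type u} [Field k] {r m n : ℕ}

local notation "S" => MvPolynomial (Fin (r + 1)) k
local notation "𝒜" => CohB1.polyGrading r k

/-- The value of a germ of a function at a point, in the localization. -/
def theta (x : Proj (CohB1.polyGrading r k)) :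
    (Proj (CohB1.polyGrading r k)).presheaf.stalk x →+* Twist.Loc (CohB1.polyGrading r k) x :=
  (algebraMap (Twist.A0 (CohB1.polyGrading r k) x) (Twist.Loc (CohB1.polyGrading r k) x)).comp
    (AlgebraicGeometry.stalkToFiberRingHom (CohB1.polyGrading r k) x).hom

theorem theta_germ {V : (Proj 𝒜).Opens} {x : Proj 𝒜} (hx : x ∈ V) (c : Γ(Proj 𝒜, V)) :
    theta x ((Proj 𝒜).presheaf.germ V x hx c) = valAt ((ProjCoh.unitToTwist 𝒜).app V c) ⟨x, hx⟩ := by
  rw [theta, RingHom.comp_apply, HomogeneousLocalization.algebraMap_apply, ProjTwistLib.valAt_unit]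
  exact congrArg HomogeneousLocalization.val (AlgebraicGeometry.stalkToFiberRingHom_germ 𝒜 V x hx c)

theorem theta_injective (x : Proj 𝒜) : Function.Injective (theta x) := by
  intro a b h
  rw [theta, RingHom.comp_apply, RingHom.comp_apply, HomogeneousLocalization.algebraMap_apply,
    HomogeneousLocalization.algebraMap_apply] at h
  exact (AlgebraicGeometry.Proj.stalkIso' 𝒜 x).injective (HomogeneousLocalization.val_injective _ h)

theorem theta_fracSec {i : ℕ} (a s : 𝒜 i) {V : (Proj 𝒜).Opens} (hV : V ≤ Proj.basicOpen 𝒜 s.1) {x : Proj 𝒜}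
    (hx : x ∈ V) :
    theta x ((Proj 𝒜).presheaf.germ V x hx (fracSec 𝒜 a s hV)) = Localization.mk a.1 ⟨s.1, hV hx⟩ := by
  rw [theta_germ, ProjTwistLib.valAt_unit]
  exact HomogeneousLocalization.val_mk _

/-- A section of the structure module as a multiple of the generator. -/
theorem germ_structure {X : Scheme.{u}} {V : X.Opens} {x : X} (hx : x ∈ V) (c : Γ(X, V)) :
    (Coh.structureModule X).presheaf.germ V x hx c = X.presheaf.germ V x hx c • oneG x := by
  have h1 : oneG x = (Coh.structureModule X).presheaf.germ V x hx (1 : Γ(X, V)) := by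
    refine Eq.trans ?_ (TopCat.Presheaf.germ_res_apply (Coh.structureModule X).presheaf
      (homOfLE (le_top : V ≤ ⊤)) x hx (1 : Γ(X, ⊤))).symm |>.trans ?_
    · rfl
    · exact congrArg _ (map_one (X.presheaf.map (homOfLE (le_top : V ≤ ⊤)).op).hom)
  rw [h1]
  refine Eq.trans ?_ (PresheafOfModules.germ_smul (R := X.presheaf) (Coh.structureModule X).val x V hx c
    (1 : Γ(X, V)))
  exact congrArg _ (mul_one c).symm

section Matrix

/-- The germ of the matrix entry on a chart. -/
def gmat (L : Fin m → Fin n → 𝒜 1) (i : Fin (r + 1)) (x : Proj 𝒜) (hx : x ∈ chartU k r i) (j : Fin m)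
    (l : Fin n) : (Proj 𝒜).presheaf.stalk x :=
  (Proj 𝒜).presheaf.germ (chartU k r i) x hx (fracSec 𝒜 (L j l) (xPow r k i 1) le_rfl)

variable (L : Fin m → Fin n → (CohB1.polyGrading r k) 1) {i : Fin (r + 1)} {x : Proj (CohB1.polyGrading r k)}
  (hx : x ∈ chartU k r i)

theorem theta_det (e : Fin m → Fin n) :
    theta x (Matrix.of fun a b => gmat L i x hx a (e b)).det =
      (Localization.mk 1 ⟨(xPow r k i 1).1, hx⟩ : Twist.Loc 𝒜 x) ^ m *
        Localization.mk (Matrix.of fun a b => ((L a (e b)).1 : S)).det ⟨1, one_notMem x⟩ := by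
  rw [RingHom.map_det]
  have h : (theta x).mapMatrix (Matrix.of fun a b => gmat L i x hx a (e b)) =
      (Localization.mk 1 ⟨(xPow r k i 1).1, hx⟩ : Twist.Loc 𝒜 x) •
        (algebraMap S (Twist.Loc 𝒜 x)).mapMatrix (Matrix.of fun a b => ((L a (e b)).1 : S)) := by
    ext a b
    simp only [RingHom.mapMatrix_apply, Matrix.map_apply, Matrix.smul_apply, Matrix.of_apply]
    rw [gmat, theta_fracSec, ← Localization.mk_one_eq_algebraMap, smul_eq_mul, Localization.mk_mul]
    simp [xPow]
  rw [h, Matrix.det_smul, Fintype.card_fin, ← RingHom.map_det, ← Localization.mk_one_eq_algebraMap]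
  rfl

theorem hasMinor_of_span_eq_top
    (h : Ideal.span {q | ∃ e : Fin m → Fin n, q = (Matrix.of fun a b => gmat L i x hx a (e b)).det} = ⊤) :
    HasMinor (fun a b => (L a b).1) x := by
  by_contra hno
  refine (IsLocalRing.maximalIdeal.isMaximal ((Proj 𝒜).presheaf.stalk x)).ne_top (top_le_iff.1 (h ▸ Ideal.span_le.2 ?_))
  rintro _ ⟨e, rfl⟩ hu
  have h1 := hu.map (theta x)
  rw [theta_det, IsUnit.mul_iff] at h1
  have h2 : IsUnit (algebraMap S (Twist.Loc 𝒜 x) (Matrix.of fun a b => ((L a (e b)).1 : S)).det) := by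
    rw [← Localization.mk_one_eq_algebraMap]; exact h1.2
  exact hno ⟨e, fun hmem => ((IsLocalization.AtPrime.isUnit_to_map_iff (Twist.Loc 𝒜 x)
    x.asHomogeneousIdeal.toIdeal _).1 h2) hmem⟩

end Matrix

section Phi

variable (φ : (∐ fun _ : Fin n => Twist.twist (CohB1.polyGrading r k) (-1)) ⟶
  FlatMod.freeMod (Proj (CohB1.polyGrading r k)) m)

/-- The entries. -/
def entry (j : Fin m) (l : Fin n) : Twist.twist 𝒜 (-1) ⟶ Coh.structureModule (Proj 𝒜) :=
  Sigma.ι (fun _ : Fin n => Twist.twist 𝒜 (-1)) l ≫ φ ≫ S0938.proj (Proj 𝒜) m j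

/-- The matrix of linear forms. -/
def forms (j : Fin m) (l : Fin n) : 𝒜 1 := (exists_linear (entry φ j l)).choose

theorem isLinear_forms : IsLinear fun j l => (forms φ j l).1 := fun j l =>
  GrSyzLib.mem_stdGr_natCast.2 (forms φ j l).2

theorem stalk_entry (j : Fin m) (l : Fin n) {i : Fin (r + 1)} {x : Proj 𝒜} (hx : x ∈ chartU k r i) :
    stalkLin (entry φ j l) x ((Twist.twist 𝒜 (-1)).presheaf.germ _ x hx (invX i le_rfl)) =
      gmat (forms φ) i x hx j l • oneG x := by
  erw [stalkLin_germ]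
  refine (congrArg ((Coh.structureModule (Proj 𝒜)).presheaf.germ _ x hx) ?_).trans (germ_structure hx _)
  refine (ProjCoh.unitToTwist_bijective (chartU k r i)).1 (sect_ext fun y => ?_)
  rw [(exists_linear (entry φ j l)).choose_spec, ProjTwistLib.valAt_unit]
  refine Eq.trans ?_ (HomogeneousLocalization.val_mk _).symm
  rw [invX, ProjTwistLib.valAt_frac, Localization.mk_mul]
  simp only [forms, mul_one]
  congr 1
  exact Subtype.ext (one_mul _)

/-- The standard generators at a point. -/
def stdG (x : Proj 𝒜) (j : Fin m) : (FlatMod.freeMod (Proj 𝒜) m).presheaf.stalk x :=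
  stalkLin (S0938.incl (Proj 𝒜) m j) x (oneG x)

theorem stalkLin_sum' {X : Scheme.{u}} {M N : X.Modules} {ι : Type*} (t : Finset ι) (f : ι → (M ⟶ N)) (x : X)
    (z : M.presheaf.stalk x) : stalkLin (∑ i ∈ t, f i) x z = ∑ i ∈ t, stalkLin (f i) x z := by
  rw [H1ZeroLib.stalkLin_sum]

theorem stalkLin_zero' {X : Scheme.{u}} {M N : X.Modules} (x : X) (z : M.presheaf.stalk x) :
    stalkLin (0 : M ⟶ N) x z = 0 := by
  rw [DevLib.stalkLin_zero]; rfl

theorem sum_proj_stdG {x : Proj 𝒜} (z : (FlatMod.freeMod (Proj 𝒜) m).presheaf.stalk x)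
    (c : Fin m → (Proj 𝒜).presheaf.stalk x) (hc : ∀ j, stalkLin (S0938.proj (Proj 𝒜) m j) x z = c j • oneG x) :
    z = ∑ j, c j • stdG x j := by
  have h : 𝟙 (FlatMod.freeMod (Proj 𝒜) m) = ∑ j, S0938.proj (Proj 𝒜) m j ≫ S0938.incl (Proj 𝒜) m j := by
    classical
    refine Sigma.hom_ext _ _ fun i => ?_
    rw [Category.comp_id, Preadditive.comp_sum, Finset.sum_eq_single i]
    · rw [← Category.assoc, show Sigma.ι _ i = S0938.incl (Proj 𝒜) m i from rfl, S0938.incl_proj, if_pos rfl,
        Category.id_comp]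
    · intro j _ hj
      rw [← Category.assoc, show Sigma.ι _ i = S0938.incl (Proj 𝒜) m i from rfl, S0938.incl_proj,
        if_neg (Ne.symm hj), zero_comp]
    · simp
  have h2 := congrArg (fun f => stalkLin f x z) h
  simp only [stalkLin_id, stalkLin_sum', LinearMap.id_apply] at h2
  refine h2.trans (Finset.sum_congr rfl fun j _ => ?_)
  rw [stalkLin_comp, LinearMap.comp_apply, hc, map_smul]
  rfl

theorem proj_stdG (x : Proj 𝒜) (j j' : Fin m) :
    stalkLin (S0938.proj (Proj 𝒜) m j') x (stdG x j) = (if j = j' then (1 : (Proj 𝒜).presheaf.stalk x) else 0) • oneG x := by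
  rw [stdG, ← LinearMap.comp_apply, ← stalkLin_comp, S0938.incl_proj]
  split_ifs
  · rw [stalkLin_id, one_smul]; rfl
  · rw [stalkLin_zero', zero_smul]

theorem exists_coords (x : Proj 𝒜) (z : (FlatMod.freeMod (Proj 𝒜) m).presheaf.stalk x) :
    ∃ c : Fin m → (Proj 𝒜).presheaf.stalk x, z = ∑ j, c j • stdG x j := by
  choose c hc using fun j => (bijective_oneG x).2 (stalkLin (S0938.proj (Proj 𝒜) m j) x z)
  exact ⟨c, sum_proj_stdG z c fun j => (hc j).symm⟩

theorem coords_unique {x : Proj 𝒜} {c c' : Fin m → (Proj 𝒜).presheaf.stalk x}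
    (h : ∑ j, c j • stdG x j = ∑ j, c' j • stdG x j) : c = c' := by
  funext j
  have h2 := congrArg (stalkLin (S0938.proj (Proj 𝒜) m j) x) h
  simp only [map_sum, map_smul, proj_stdG, ite_smul, one_smul, zero_smul, smul_ite, smul_zero,
    Finset.sum_ite_eq', Finset.mem_univ, if_true] at h2
  exact (bijective_oneG x).1 h2

theorem stalk_phi {i : Fin (r + 1)} {x : Proj 𝒜} (hx : x ∈ chartU k r i) (l : Fin n) :
    stalkLin φ x (stalkLin (Sigma.ι (fun _ : Fin n => Twist.twist 𝒜 (-1)) l) x
      ((Twist.twist 𝒜 (-1)).presheaf.germ _ x hx (invX i le_rfl))) =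
      ∑ j, gmat (forms φ) i x hx j l • stdG x j := by
  refine sum_proj_stdG _ _ fun j => ?_
  rw [← stalk_entry φ j l hx, entry, stalkLin_comp, stalkLin_comp]
  rfl

theorem isLocallyNoetherian_proj : IsLocallyNoetherian (Proj 𝒜) :=
  haveI := CMRegLib.isNoetherian_projSpace (k := k) (n := r)
  show IsLocallyNoetherian (CohB1.ProjSpace r k) from inferInstance

theorem isCoh_source : Coh.IsCoh (∐ fun _ : Fin n => Twist.twist 𝒜 (-1)) :=
  haveI := isLocallyNoetherian_proj (k := k) (r := r)
  CMRegLib.isCoh_sigma_fin _ fun _ => CurveLib.isCoh_of_isInvertible (CMRegLib.isInvertible_O (k := k) (n := r) (-1))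

theorem isCoh_cokernel_phi : Coh.IsCoh (cokernel φ) :=
  haveI := isLocallyNoetherian_proj (k := k) (r := r)
  (QCohLib.isCoh_kernel_cokernel φ isCoh_source
    (CMRegLib.isCoh_sigma_fin _ fun _ => DevLib.isCoh_structureModule (Proj 𝒜))).2

/-- The stalk of the Fitting ideal. -/
theorem stalkIdeal_fitt {i : Fin (r + 1)} {x : Proj 𝒜} (hx : x ∈ chartU k r i) :
    IntMult.stalkIdeal (Fitt.sheafIdeal (cokernel φ) 0) x =
      Ideal.span {q | ∃ e : Fin m → Fin n, q = (Matrix.of fun a b => gmat (forms φ) i x hx a (e b)).det} := by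
  haveI : Coh.IsQCoh (cokernel φ) := (isCoh_cokernel_phi φ).1
  have hft : CohB1.IsFT (cokernel φ) := (isCoh_cokernel_phi φ).2
  obtain ⟨W, hW, hxW, -⟩ := exists_isAffineOpen_mem_and_subset (U := (⊤ : (Proj 𝒜).Opens)) (x := x) trivial
  rw [IdealStalkLib.stalkIdeal_eq _ ⟨W, hW⟩ x hxW, FittSheafLib.sheafIdeal_ideal _ hft 0 ⟨W, hW⟩,
    FittSheafLib.stalk_fitt _ hft 0 hW x hxW]
  let y : Fin m → (cokernel φ).presheaf.stalk x := fun j => stalkLin (cokernel.π φ) x (stdG x j)
  let G : Fin n → Fin m → (Proj 𝒜).presheaf.stalk x := fun l j => gmat (forms φ) i x hx j l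
  have hsurj : Function.Surjective (stalkLin (cokernel.π φ) x) := (epi_iff_stalk _).1 inferInstance x
  have hy : Submodule.span ((Proj 𝒜).presheaf.stalk x) (Set.range y) = ⊤ := by
    refine eq_top_iff.2 fun z _ => ?_
    obtain ⟨w, rfl⟩ := hsurj z
    obtain ⟨c, rfl⟩ := exists_coords x w
    rw [map_sum]
    exact Submodule.sum_mem _ fun j _ => by rw [map_smul]; exact Submodule.smul_mem _ _ (Submodule.subset_span ⟨j, rfl⟩)
  have hrel : Submodule.span ((Proj 𝒜).presheaf.stalk x) (Set.range G) = FittLib.Rel y := by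
    refine le_antisymm (Submodule.span_le.2 ?_) fun c hc => ?_
    · rintro _ ⟨l, rfl⟩
      show ∑ j, G l j • y j = 0
      simp only [y, G, ← map_smul, ← map_sum, ← stalk_phi φ hx l]
      rw [← LinearMap.comp_apply, ← stalkLin_comp, cokernel.condition, stalkLin_zero']
    · have h0 : stalkLin (cokernel.π φ) x (∑ j, c j • stdG x j) = 0 := by
        rw [map_sum]; simp only [map_smul]; exact FittLib.mem_rel.1 hc
      have hS : (ShortComplex.mk φ (cokernel.π φ) (cokernel.condition φ)).Exact :=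
        ShortComplex.exact_of_g_is_cokernel _ (cokernelIsCokernel φ)
      haveI : Epi (ShortComplex.mk φ (cokernel.π φ) (cokernel.condition φ)).g := inferInstanceAs (Epi (cokernel.π φ))
      obtain ⟨w, hw⟩ := (exact_stalkLin _ hS x _).1 h0
      change stalkLin φ x w = _ at hw
      classical
      have hid : 𝟙 (∐ fun _ : Fin n => Twist.twist 𝒜 (-1)) = ∑ l, Sigma.desc (fun l' => if l' = l then 𝟙 _ else 0) ≫
          Sigma.ι (fun _ : Fin n => Twist.twist 𝒜 (-1)) l := by
        refine Sigma.hom_ext _ _ fun l => ?_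
        rw [Category.comp_id, Preadditive.comp_sum, Finset.sum_eq_single l]
        · rw [Sigma.ι_desc_assoc, if_pos rfl, Category.id_comp]
        · intro l' _ hl
          rw [Sigma.ι_desc_assoc, if_neg (Ne.symm hl), zero_comp]
        · simp
      have hw2 := congrArg (fun f => stalkLin φ x (stalkLin f x w)) hid
      simp only [stalkLin_id, LinearMap.id_apply, stalkLin_sum', map_sum, hw] at hw2
      have hgen : ∀ z : (Twist.twist 𝒜 (-1)).presheaf.stalk x, ∃ a : (Proj 𝒜).presheaf.stalk x,
          z = a • (Twist.twist 𝒜 (-1)).presheaf.germ _ x hx (invX i le_rfl) := by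
        intro z
        obtain ⟨U, hU, s, rfl⟩ := TopCat.Presheaf.exists_germ_eq (Twist.twist 𝒜 (-1)).presheaf z
        obtain ⟨c, hc⟩ := (ProjTwistLib.gen_frac (⟨1, SetLike.GradedOne.one_mem⟩ : 𝒜 0) (xPow r k i 1) (-1)
          (by norm_num) (le_refl (chartU k r i)) le_basicOpen_one (U ⊓ chartU k r i) inf_le_right).2
          ((Twist.twist 𝒜 (-1)).presheaf.map (homOfLE inf_le_left).op s)
        refine ⟨(Proj 𝒜).presheaf.germ (U ⊓ chartU k r i) x ⟨hU, hx⟩ c, ?_⟩
        rw [← TopCat.Presheaf.germ_res_apply (Twist.twist 𝒜 (-1)).presheaf (homOfLE inf_le_left) x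
            (⟨hU, hx⟩ : x ∈ U ⊓ chartU k r i) s, ← hc,
          ← TopCat.Presheaf.germ_res_apply (Twist.twist 𝒜 (-1)).presheaf (homOfLE inf_le_right) x
            (⟨hU, hx⟩ : x ∈ U ⊓ chartU k r i) (invX i le_rfl)]
        exact PresheafOfModules.germ_smul (R := (Proj 𝒜).presheaf) (Twist.twist 𝒜 (-1)).val x _ _ _ _
      choose a ha using fun l => hgen (stalkLin (Sigma.desc fun l' : Fin n => if l' = l then
        𝟙 (Twist.twist 𝒜 (-1)) else 0) x w)
      refine (Submodule.mem_span_range_iff_exists_fun _).2 ⟨a, coords_unique ?_⟩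
      rw [hw2]
      simp only [Finset.sum_apply, Pi.smul_apply, smul_eq_mul, Finset.sum_smul, mul_smul]
      rw [Finset.sum_comm]
      refine Finset.sum_congr rfl fun l _ => ?_
      rw [stalkLin_comp, LinearMap.comp_apply, ha l, map_smul, map_smul, stalk_phi φ hx l, Finset.smul_sum]
  rw [FittLib.ideal_eq_D y hy 0, FittLib.D_eq_span_gen y (Set.range G) hrel 0]
  refine le_antisymm (Ideal.span_le.2 ?_) (Ideal.span_le.2 ?_)
  · rintro _ ⟨A, T, hT, hA, -, rfl⟩
    have hT' : T = Finset.univ := Finset.eq_univ_of_card T (by simpa using hT)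
    choose e he using fun b => hA b (hT' ▸ Finset.mem_univ b)
    refine Ideal.subset_span ⟨e, ?_⟩
    rw [← Matrix.det_transpose]
    congr 1
    ext a b
    rw [Matrix.transpose_apply, ← he b]
    rfl
  · rintro _ ⟨e, rfl⟩
    refine Ideal.subset_span ⟨fun b => G (e b), Finset.univ, by simp, fun b _ => ⟨e b, rfl⟩,
      fun b hb => absurd (Finset.mem_univ b) hb, ?_⟩
    rw [← Matrix.det_transpose]
    rfl

theorem hasMinor_of_notMem {x : Proj 𝒜} (hx : x ∉ ((Fitt.sheafIdeal (cokernel φ) 0).support : Set (Proj 𝒜))) :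
    HasMinor (fun a b => (forms φ a b).1) x := by
  obtain ⟨i, hi⟩ := exists_mem_chartU x
  refine hasMinor_of_span_eq_top (forms φ) hi ?_
  rw [← stalkIdeal_fitt φ hi]
  exact HilbObsLib.stalkIdeal_eq_top _ (by rwa [Scheme.IdealSheafData.range_subschemeι])

end Phi

section Image

variable {L : Fin m → Fin n → MvPolynomial (Fin (r + 1)) k} (hL : IsLinear L)

theorem valAt_twistIso_inv (d : ℤ) {V : (Proj 𝒜).Opens} (f : Γ(GrTilde.tilde 𝒜 𝒜 d, V)) (x : V) :
    valAt ((GrTildeLib.twistIso 𝒜 d).inv.app V f) x = GrTildeLib.valAt f x := by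
  have h : (GrTildeLib.twistIso 𝒜 d).hom.app V ((GrTildeLib.twistIso 𝒜 d).inv.app V f) = f := by
    rw [← ConcreteCategory.comp_apply, ← Scheme.Modules.Hom.comp_app, Iso.inv_hom_id]; rfl
  exact congrArg (fun g => GrTildeLib.valAt g x) h

/-- The augmentation into the structure module. -/
def augO : enSheaf k r m n 0 ⟶ Coh.structureModule (Proj (CohB1.polyGrading r k)) :=
  augSheaf hL ≫ (GrTildeLib.twistIso (CohB1.polyGrading r k) 0).inv ≫
    @inv _ _ _ _ (ProjCoh.unitToTwist (CohB1.polyGrading r k)) ProjCoh.isIso_unitToTwist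

theorem stalk_augO {x : Proj 𝒜} {d : ℕ} (v : GrSyzLib.freeGr (k := k) (r := r) (deg m n 0) d) (s : 𝒜 d)
    (hs : x ∈ Proj.basicOpen 𝒜 s.1) :
    stalkLin (augO hL) x ((enSheaf k r m n 0).presheaf.germ _ x hs
      (GrTildeLib.frac 𝒜 (GrSyzLib.freeGr (deg m n 0)) v s 0 (by simp) le_rfl)) =
      (Proj 𝒜).presheaf.germ (Proj.basicOpen 𝒜 s.1) x hs
        (fracSec 𝒜 ⟨augLin L v.1, isDeg_augLin hL d v.1 v.2⟩ s le_rfl) • oneG x := by
  haveI : IsIso (ProjCoh.unitToTwist 𝒜) := ProjCoh.isIso_unitToTwist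
  erw [stalkLin_germ]
  refine (congrArg ((Coh.structureModule (Proj 𝒜)).presheaf.germ _ x hs) ?_).trans (germ_structure hs _)
  refine (ProjCoh.unitToTwist_bijective _).1 (sect_ext fun y => ?_)
  have h : (ProjCoh.unitToTwist 𝒜).app (Proj.basicOpen 𝒜 s.1) ((augO hL).app (Proj.basicOpen 𝒜 s.1)
      (GrTildeLib.frac 𝒜 (GrSyzLib.freeGr (deg m n 0)) v s 0 (by simp) le_rfl)) =
      (GrTildeLib.twistIso 𝒜 0).inv.app _ ((augSheaf hL).app _
        (GrTildeLib.frac 𝒜 (GrSyzLib.freeGr (deg m n 0)) v s 0 (by simp) le_rfl)) := by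
    rw [← ConcreteCategory.comp_apply, ← Scheme.Modules.Hom.comp_app, augO, Category.assoc, Category.assoc,
      IsIso.inv_hom_id, Category.comp_id]
    rfl
  rw [h, valAt_twistIso_inv, augSheaf]
  refine (GrTildeLib.valAt_tmap _ _ _ y).trans ((GrTildeLib.locMap_mk _ _ _ _).trans ?_)
  refine Eq.symm ?_
  rw [ProjTwistLib.valAt_unit]
  exact HomogeneousLocalization.val_mk _

/-- The increasing enumeration of a basis subset. -/
def sortSet (b : Fin (rk m n 0)) : Fin m ↪o Fin n :=
  (setOf' b).orderEmbOfFin (by simpa using card_setOf b)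

theorem aug_basis (b : Fin (rk m n 0)) :
    augLin L (Pi.single b 1) =
      (Matrix.of fun a c => L a (sortSet b c)).det := by
  classical
  have hb : expo b = 0 := funext fun j => by
    have h := ((Fintype.equivFin (Idx m n 0)).symm b).2.1
    exact Finset.sum_eq_zero_iff.1 h j (Finset.mem_univ j)
  have h1 : emb (k := k) (r := r) 0 (Pi.single b 1) = fun a => if a = 0 then dlt (setOf' b) else 0 := by
    funext a T
    show (∑ c, if expo c = a ∧ setOf' c = T then (Pi.single b 1 : Fin (rk m n 0) → S) c else 0) = _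
    rw [Finset.sum_eq_single b (fun c _ hc => by rw [Pi.single_eq_of_ne hc, ite_self]) (by simp), Pi.single_eq_same, hb]
    by_cases ha : a = 0
    · subst ha
      simp [dlt, eq_comm]
    · rw [if_neg fun h => ha h.1.symm, if_neg ha]; rfl
  show aug L (emb 0 (Pi.single b 1)) = _
  rw [h1]
  have h2 := aug_single (L := L) ⇑(sortSet b)
    (sortSet b).strictMono
  rwa [sortSet, Finset.image_orderEmbOfFin_univ] at h2

theorem augLin_sum (v : Fin (rk m n 0) → S) : augLin L v = ∑ b, v b * augLin L (Pi.single b 1) := by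
  classical
  conv_lhs => rw [pi_eq_sum_univ' v]
  rw [map_sum]
  exact Finset.sum_congr rfl fun b _ => by rw [map_smul, smul_eq_mul]

variable (L' : Fin m → Fin n → (CohB1.polyGrading r k) 1)

theorem range_augO (hLL : IsLinear fun a b => ((L' a b).1 : MvPolynomial (Fin (r + 1)) k))
    {i : Fin (r + 1)} {x : Proj 𝒜} (hx : x ∈ chartU k r i) (q : (Proj 𝒜).presheaf.stalk x) :
    (∃ z, stalkLin (augO hLL) x z = q • oneG x) ↔
      q ∈ Ideal.span {q | ∃ e : Fin m → Fin n, q = (Matrix.of fun a b => gmat L' i x hx a (e b)).det} := by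
  classical
  let M : Ideal ((Proj 𝒜).presheaf.stalk x) :=
    Ideal.span {q | ∃ e : Fin m → Fin n, q = (Matrix.of fun a b => gmat L' i x hx a (e b)).det}
  have hq : (xPow r k i m).1 ∉ x.asHomogeneousIdeal := fun h => hx (by
    show (xPow r k i 1).1 ∈ x.asHomogeneousIdeal
    simpa [xPow] using x.isPrime.mem_of_pow_mem m h)
  constructor
  · rintro ⟨z, hz⟩
    show q ∈ M
    rcases GrTildeLib.exists_germ_frac z with rfl | ⟨d, d', v, s, hd, hs, rfl⟩
    · rw [map_zero] at hz
      rw [(bijective_oneG x).1 (hz.symm.trans (zero_smul _ (oneG x)).symm)]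
      exact zero_mem _
    obtain rfl : d = d' := by simpa using hd
    erw [stalk_augO] at hz
    rw [← (bijective_oneG x).1 hz]
    have hv : ∀ b, (v.1 b : S) * (xPow r k i m).1 ∈ 𝒜 d := by
      intro b
      have h1 : v.1 b ∈ GrSyz.stdGr k (Fin (r + 1)) ((d : ℤ) - deg m n 0 b) := (GrSyzLib.mem_piece.1 v.2) b
      by_cases h0 : v.1 b = 0
      · rw [h0, zero_mul]; exact zero_mem _
      have hle : m ≤ d := by
        by_contra hlt
        exact h0 (GrInjLib.Poly.hpos _ (by simp only [deg]; omega) _ h1)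
      rw [show ((d : ℤ) - deg m n 0 b) = ((d - m : ℕ) : ℤ) by simp only [deg]; omega,
        GrSyzLib.mem_stdGr_natCast] at h1
      have h2 := SetLike.mul_mem_graded h1 (xPow r k i m).2
      rwa [Nat.sub_add_cancel hle] at h2
    have key : (Proj 𝒜).presheaf.germ (Proj.basicOpen 𝒜 s.1) x hs
        (fracSec 𝒜 ⟨augLin (fun a b => (L' a b).1) v.1, isDeg_augLin hLL d v.1 v.2⟩ s le_rfl) =
        ∑ b, (Proj 𝒜).presheaf.germ (Proj.basicOpen 𝒜 s.1) x hs (fracSec 𝒜 ⟨_, hv b⟩ s le_rfl) *
          (Matrix.of fun a c => gmat L' i x hx a (sortSet b c)).det := by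
      refine theta_injective x ?_
      rw [map_sum, theta_fracSec]
      simp only [map_mul, theta_fracSec, theta_det]
      rw [show augLin (fun a b => (L' a b).1) v.1 = _ from augLin_sum v.1]
      have hmk : ∀ (a : S) (t : x.asHomogeneousIdeal.toIdeal.primeCompl),
          (Localization.mk a t : Twist.Loc 𝒜 x) = Localization.mk 1 t * algebraMap S (Twist.Loc 𝒜 x) a := fun a t => by
        rw [← Localization.mk_one_eq_algebraMap, Localization.mk_mul, one_mul, mul_one]
      rw [hmk, map_sum, Finset.mul_sum]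
      refine Finset.sum_congr rfl fun b _ => ?_
      rw [aug_basis, Localization.mk_pow, Localization.mk_mul, Localization.mk_mul, ← hmk]
      refine Localization.mk_eq_mk_iff.2 (Localization.r_iff_exists.2 ⟨1, ?_⟩)
      simp [xPow]
      ring
    rw [key]
    exact Ideal.sum_mem _ fun b _ => Ideal.mul_mem_left _ _ (Ideal.subset_span ⟨_, rfl⟩)
  · intro h
    induction h using Submodule.span_induction with
    | mem q hq' =>
      obtain ⟨e, rfl⟩ := hq'
      by_cases he : Function.Injective e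
      · have hcard : (Finset.univ.image e).card = m := by rw [Finset.card_image_of_injective _ he]; simp
        obtain ⟨b, hb0, hb⟩ := exists_idx (m := m) (n := n) (i := 0) (a := 0) (T := Finset.univ.image e)
          (by simp) (by simpa using hcard)
        let e₀ : Fin m → Fin n := fun c => sortSet b c
        obtain ⟨σ, hσ⟩ : ∃ σ : Equiv.Perm (Fin m), e = e₀ ∘ σ := by
          have hmem : ∀ c, e c ∈ Set.range e₀ := fun c => by
            show e c ∈ Set.range (sortSet b); rw [sortSet, Finset.range_orderEmbOfFin, hb]; simp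
          choose σ hσ using hmem
          have hσi : Function.Injective σ := fun a c h => he (by rw [← hσ a, ← hσ c, h])
          exact ⟨Equiv.ofBijective σ (Finite.injective_iff_bijective.1 hσi), funext fun c => (hσ c).symm⟩
        have hv : (Pi.single b 1 : Fin (rk m n 0) → S) ∈ GrSyzLib.freeGr (deg m n 0) m :=
          GrSyzLib.mem_piece.2 fun c => by
            rcases eq_or_ne c b with rfl | hc
            · rw [Pi.single_eq_same, show ((m : ℤ) - deg m n 0 c) = ((0 : ℕ) : ℤ) by simp [deg],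
                GrSyzLib.mem_stdGr_natCast]
              exact SetLike.GradedOne.one_mem
            · rw [Pi.single_eq_of_ne hc]; exact zero_mem _
        refine ⟨((Equiv.Perm.sign σ : ℤ) : (Proj 𝒜).presheaf.stalk x) •
          (enSheaf k r m n 0).presheaf.germ _ x hq
            (GrTildeLib.frac 𝒜 (GrSyzLib.freeGr (deg m n 0)) ⟨_, hv⟩ (xPow r k i m) 0 (by simp) le_rfl), ?_⟩
        rw [map_smul]
        erw [stalk_augO]
        rw [smul_smul, hσ]
        refine congrArg (· • oneG x) ?_
        rw [show (Matrix.of fun a c => gmat L' i x hx a ((e₀ ∘ σ) c)) =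
          (Matrix.of fun a c => gmat L' i x hx a (e₀ c)).submatrix id σ from rfl, Matrix.det_permute']
        congr 1
        refine theta_injective x ?_
        rw [theta_fracSec, theta_det, Localization.mk_pow, Localization.mk_mul]
        simp only [aug_basis]
        simp [xPow, e₀]
      · obtain ⟨a, c, hac, hne⟩ := Function.not_injective_iff.1 he
        refine ⟨0, ?_⟩
        rw [map_zero, Matrix.det_zero_of_column_eq hne (fun p => by simp [hac]), zero_smul]
    | zero => exact ⟨0, by rw [map_zero, zero_smul]⟩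
    | add a b _ _ ha hb =>
      obtain ⟨za, ha⟩ := ha
      obtain ⟨zb, hb⟩ := hb
      exact ⟨za + zb, by rw [map_add, ha, hb, add_smul]⟩
    | smul c a _ ha =>
      obtain ⟨za, ha⟩ := ha
      exact ⟨c • za, by rw [map_smul, ha, smul_smul, smul_eq_mul]⟩

end Image

end Groth.Agent.ENLib
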