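import Groth.Agent.ENLib.Koszul
import Groth.Agent.GrSyzLib.Sheaf

/-!
# The Eagon–Northcott complex of a matrix of linear forms as a complex of sheaves
-/

set_option autoImplicit false
set_option linter.style.haveILetI false
set_option backward.isDefEq.respectTransparency false

universe u

open DirectSum CategoryTheory CategoryTheory.Limits TopologicalSpace AlgebraicGeometry Opposite
open GrInjLib GrInjLib.Poly
open Groth.Agent.GrSyzLib (mem_piece)
open Groth.Agent.PullbackMod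

noncomputable section

namespace Groth.Agent.GrTildeLib

variable {R A : Type u} [CommRing R] [CommRing A] [Algebra R A] {𝒜 : ℕ → Submodule R A} [GradedAlgebra 𝒜]
variable {M : Type u} [AddCommGroup M] [Module R M] [Module A M] {ℳ : ℕ → Submodule R M}
  [SetLike.GradedSMul 𝒜 ℳ]
variable {N : Type u} [AddCommGroup N] [Module R N] [Module A N] {𝒩 : ℕ → Submodule R N}
  [SetLike.GradedSMul 𝒜 𝒩]
variable {P : Type u} [AddCommGroup P] [Module R P] [Module A P] {𝒬 : ℕ → Submodule R P}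
  [SetLike.GradedSMul 𝒜 𝒬]

/-- Exactness at one point from exactness up to homogeneous elements not vanishing there. -/
theorem exact_tmap_at (u : M →ₗ[A] N) (hu : IsDeg ℳ 𝒩 u) (v : N →ₗ[A] P) (hv : IsDeg 𝒩 𝒬 v) (n : ℤ)
    (hann : HasHomAnn 𝒜 𝒬) (x : Proj 𝒜)
    (h : ∀ i : ℕ, ∀ z ∈ 𝒩 i, v z = 0 → ∃ (e : ℕ) (c : 𝒜 e), c.1 ∉ x.asHomogeneousIdeal ∧
      ∃ y ∈ ℳ (e + i), u y = c.1 • z) (z : (GrTilde.tilde 𝒜 𝒩 n).presheaf.stalk x)
    (hz : stalkLin (tmap 𝒜 𝒩 𝒬 v hv n) x z = 0) :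
    ∃ w, stalkLin (tmap 𝒜 ℳ 𝒩 u hu n) x w = z := by
  rcases exists_germ_frac z with rfl | ⟨i, j, m, s, hd, hs, rfl⟩
  · exact ⟨0, map_zero _⟩
  erw [stalkLin_germ, tmap_frac] at hz
  obtain ⟨t, ht, htm⟩ := mk_eq_zero.1 (mk_eq_zero_of_germ_eq_zero hd hs hz)
  obtain ⟨e, c, hc, hcm⟩ := hann x i ⟨v m, hv i m m.2⟩ t ht htm
  obtain ⟨e', c', hc', y, hy, huy⟩ := h (e + i) (c.1 • m.1) (SetLike.GradedSMul.smul_mem c.2 m.2)
    (by rw [map_smul]; exact hcm)
  let r : 𝒜 (e' + (e + j)) := ⟨c'.1 * (c.1 * s.1), SetLike.mul_mem_graded c'.2 (SetLike.mul_mem_graded c.2 s.2)⟩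
  have hr : x ∈ Proj.basicOpen 𝒜 r.1 := fun hh =>
    (x.isPrime.mem_or_mem hh).elim hc' fun hh' => (x.isPrime.mem_or_mem hh').elim hc hs
  have hrd : ((e' + (e + i) : ℕ) : ℤ) = (e' + (e + j) : ℕ) + n := by push_cast; omega
  refine ⟨(GrTilde.tilde 𝒜 ℳ n).presheaf.germ _ x hr (frac 𝒜 ℳ ⟨y, hy⟩ r n hrd le_rfl), ?_⟩
  erw [stalkLin_germ, tmap_frac]
  refine TopCat.Presheaf.germ_ext _ (Proj.basicOpen 𝒜 r.1) hr (𝟙 _)
    (homOfLE (Proj.basicOpen_mono 𝒜 _ _ ⟨c'.1 * c.1, by simp only [r]; ring⟩)) ?_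
  refine sect_ext fun w => ?_
  show LocalizedModule.mk (u y) _ = LocalizedModule.mk m.1 _
  refine LocalizedModule.mk_eq.2 ⟨1, ?_⟩
  rw [one_smul, one_smul, huy]
  show s.1 • c'.1 • c.1 • m.1 = (c'.1 * (c.1 * s.1)) • m.1
  rw [smul_smul, smul_smul]
  congr 1
  ring

end Groth.Agent.GrTildeLib

namespace Groth.Agent.ENLib

variable {k : Type u} [Field k] {r m n : ℕ}

local notation "S" => MvPolynomial (Fin (r + 1)) k
local notation "𝒢" => GrSyz.stdGr k (Fin (r + 1))
local notation "𝒜" => CohB1.polyGrading r k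
local notation "PS" => CohB1.ProjSpace r k

/-- The index set of the `i`th term. -/
abbrev Idx (m n i : ℕ) : Type :=
  {p : (Fin m → Fin (i + 1)) × Finset (Fin n) // (∑ j, (p.1 j : ℕ)) = i ∧ p.2.card = m + i}

/-- The rank of the `i`th term. -/
abbrev rk (m n i : ℕ) : ℕ := Fintype.card (Idx m n i)

/-- The exponent of a basis element. -/
def expo {i : ℕ} (b : Fin (rk m n i)) : Fin m → ℕ :=
  fun j => (((Fintype.equivFin (Idx m n i)).symm b).1.1 j : ℕ)

/-- The subset of a basis element. -/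
def setOf' {i : ℕ} (b : Fin (rk m n i)) : Finset (Fin n) := ((Fintype.equivFin (Idx m n i)).symm b).1.2

theorem card_setOf {i : ℕ} (b : Fin (rk m n i)) : (setOf' b).card = m + i :=
  ((Fintype.equivFin (Idx m n i)).symm b).2.2

/-- Coordinates. -/
def res (i : ℕ) : Kz S m n →ₗ[S] (Fin (rk m n i) → S) where
  toFun f b := f (expo b) (setOf' b)
  map_add' _ _ := rfl
  map_smul' _ _ := rfl

/-- The element with given coordinates. -/
def emb (i : ℕ) : (Fin (rk m n i) → S) →ₗ[S] Kz S m n where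
  toFun v a T := ∑ b, if expo b = a ∧ setOf' b = T then v b else 0
  map_add' v w := by
    funext a T
    simp only [Pi.add_apply, ← Finset.sum_add_distrib]
    exact Finset.sum_congr rfl fun b _ => by split_ifs <;> simp
  map_smul' c v := by
    funext a T
    simp only [Pi.smul_apply, RingHom.id_apply, Finset.smul_sum, smul_ite, smul_zero]

theorem idx_ext {i : ℕ} {b b' : Fin (rk m n i)} (h1 : expo b = expo b') (h2 : setOf' b = setOf' b') : b = b' :=
  (Fintype.equivFin (Idx m n i)).symm.injective (Subtype.ext (Prod.ext (funext fun j => Fin.ext (congrFun h1 j)) h2))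

theorem exists_idx {i : ℕ} {a : Fin m → ℕ} {T : Finset (Fin n)} (ha : (∑ j, a j) = i) (hT : T.card = m + i) :
    ∃ b : Fin (rk m n i), expo b = a ∧ setOf' b = T := by
  have hlt : ∀ j, a j < i + 1 := fun j => by
    have := Finset.single_le_sum (fun l _ => Nat.zero_le (a l)) (Finset.mem_univ j)
    omega
  refine ⟨Fintype.equivFin (Idx m n i) ⟨(fun j => ⟨a j, hlt j⟩, T), ha, hT⟩, ?_, ?_⟩
  · funext j; simp [expo]
  · simp [setOf']

theorem res_emb {i : ℕ} (v : Fin (rk m n i) → S) : res i (emb (k := k) (r := r) i v) = v := by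
  funext b
  show (∑ b', if expo b' = expo b ∧ setOf' b' = setOf' b then v b' else 0) = v b
  rw [Finset.sum_eq_single b (fun b' _ hne => if_neg fun h => hne (idx_ext h.1 h.2)) (by simp), if_pos ⟨rfl, rfl⟩]

theorem inSlice_emb {i : ℕ} (v : Fin (rk m n i) → S) : InSlice i (emb (k := k) (r := r) i v) := by
  intro a T hne
  obtain ⟨b, -, hb⟩ := Finset.exists_ne_zero_of_sum_ne_zero (s := (Finset.univ : Finset (Fin (rk m n i))))
    (f := fun b => if expo b = a ∧ setOf' b = T then v b else 0) hne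
  by_cases h : expo b = a ∧ setOf' b = T
  · obtain ⟨rfl, rfl⟩ := h
    exact ((Fintype.equivFin (Idx m n i)).symm b).2
  · rw [if_neg h] at hb; exact (hb rfl).elim

theorem emb_res {i : ℕ} {f : Kz S m n} (hf : InSlice i f) : emb (k := k) (r := r) i (res i f) = f := by
  funext a T
  show (∑ b, if expo b = a ∧ setOf' b = T then f (expo b) (setOf' b) else 0) = f a T
  by_cases h : f a T = 0
  · rw [h]
    exact Finset.sum_eq_zero fun b _ => by
      split_ifs with hb
      · rw [hb.1, hb.2, h]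
      · rfl
  · obtain ⟨ha, hT⟩ := hf a T h
    obtain ⟨b, hb1, hb2⟩ := exists_idx ha hT
    rw [Finset.sum_eq_single b (fun b' _ hne => if_neg fun h' => hne (idx_ext (h'.1.trans hb1.symm)
      (h'.2.trans hb2.symm))) (by simp), if_pos ⟨hb1, hb2⟩, hb1, hb2]

/-- The degrees of the `i`th term. -/
def deg (m n i : ℕ) : Fin (rk m n i) → ℤ := fun _ => ((m + i : ℕ) : ℤ)

variable (L : Fin m → Fin n → MvPolynomial (Fin (r + 1)) k)

/-- The differentials. -/
def dLin (i : ℕ) : (Fin (rk m n (i + 1)) → S) →ₗ[S] (Fin (rk m n i) → S) := res i ∘ₗ dz L ∘ₗ emb (i + 1)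

/-- The augmentation. -/
def augLin : (Fin (rk m n 0) → S) →ₗ[S] S := aug L ∘ₗ emb 0

theorem emb_dLin (i : ℕ) (v : Fin (rk m n (i + 1)) → S) : emb i (dLin L i v) = dz L (emb (i + 1) v) :=
  emb_res ((inSlice_emb v).dz L)

theorem dLin_dLin (i : ℕ) (v : Fin (rk m n (i + 1 + 1)) → S) : dLin L i (dLin L (i + 1) v) = 0 := by
  show res i (dz L (emb (i + 1) (dLin L (i + 1) v))) = 0
  rw [emb_dLin, dz_dz, map_zero]

theorem augLin_dLin (v : Fin (rk m n 1) → S) : augLin L (dLin L 0 v) = 0 := by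
  show aug L (emb 0 (dLin L 0 v)) = 0
  rw [emb_dLin, aug_dz]

/-- The forms of `L` are linear. -/
def IsLinear (L : Fin m → Fin n → S) : Prop := ∀ j s, L j s ∈ 𝒢 1

variable {L} (hL : IsLinear L)

/-- Coefficient functions homogeneous of degree `d`. -/
def HomEl (d : ℤ) (g : Ext S n) : Prop := ∀ T, g T ∈ 𝒢 d

include hL in
theorem homEl_io {d : ℤ} {g : Ext S n} (hg : HomEl d g) (j : Fin m) : HomEl (1 + d) (io (L j) g) := by
  intro T
  rw [io_apply, Finset.sum_apply]
  refine Submodule.sum_mem _ fun s _ => ?_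
  rw [Pi.smul_apply, ann_apply, smul_eq_mul]
  refine MvPolynomial.IsWeightedHomogeneous.mul (hL j s) ?_
  split_ifs
  · exact zero_mem (𝒢 d)
  · rw [sgn]
    rcases neg_one_pow_eq_or S ((T.filter (· < s)).card) with h | h <;> rw [h]
    · rw [one_mul]; exact hg _
    · rw [neg_one_mul]; exact neg_mem (hg _)

theorem homEl_emb {i : ℕ} {d : ℕ} {v : Fin (rk m n i) → S} (hv : v ∈ GrSyzLib.freeGr (deg m n i) d)
    (a : Fin m → ℕ) : HomEl ((d : ℤ) - (m + i : ℕ)) (emb (k := k) (r := r) i v a) := by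
  intro T
  show (∑ b, if expo b = a ∧ setOf' b = T then v b else 0) ∈ GrSyz.stdGr k (Fin (r + 1)) _
  refine Submodule.sum_mem _ fun b _ => ?_
  split_ifs
  · exact mem_piece.1 hv b
  · exact zero_mem _

include hL in
theorem isDeg_dLin (i : ℕ) :
    GrTildeLib.IsDeg (GrSyzLib.freeGr (k := k) (r := r) (deg m n (i + 1))) (GrSyzLib.freeGr (deg m n i)) (dLin L i) := by
  intro d v hv
  refine mem_piece.2 fun b => ?_
  show (dz L (emb (i + 1) v)) (expo b) (setOf' b) ∈ _
  rw [dz_apply, Finset.sum_apply]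
  refine Submodule.sum_mem _ fun j _ => ?_
  have h := homEl_io hL (homEl_emb hv (up j (expo b))) j (setOf' b)
  rw [show (1 : ℤ) + ((d : ℤ) - (m + (i + 1) : ℕ)) = (d : ℤ) - deg m n i b by
    simp only [deg]; push_cast; ring] at h
  exact h

include hL in
theorem homEl_ioList : ∀ (l : List (Fin m)) {d : ℤ} {g : Ext S n}, HomEl d g →
    HomEl ((l.length : ℤ) + d) (ioList L l g) := by
  intro l
  induction l with
  | nil => intro d g hg; simpa [ioList] using hg
  | cons j l ih =>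
    intro d g hg
    have h := ih (homEl_io hL hg j)
    rw [show ((l.length : ℤ) + (1 + d)) = (((j :: l).length : ℕ) : ℤ) + d by
      simp only [List.length_cons]; push_cast; ring] at h
    exact h

include hL in
theorem isDeg_augLin :
    GrTildeLib.IsDeg (GrSyzLib.freeGr (k := k) (r := r) (deg m n 0)) 𝒜 (augLin L) := by
  intro d v hv
  have h := homEl_ioList hL (List.finRange m) (homEl_emb hv 0) ∅
  rw [List.length_finRange, show ((m : ℤ) + ((d : ℤ) - (m + 0 : ℕ))) = (d : ℤ) by push_cast; ring] at h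
  exact GrSyzLib.mem_stdGr_natCast.1 h

theorem hasHomAnn_self : GrTildeLib.HasHomAnn 𝒜 𝒜 := by
  intro x i p t ht htp
  refine ⟨0, ⟨1, SetLike.GradedOne.one_mem⟩, fun h => x.isPrime.ne_top ((Ideal.eq_top_iff_one _).2 h), ?_⟩
  have ht0 : t ≠ 0 := fun h => ht (h ▸ Submodule.zero_mem _)
  rw [(mul_eq_zero.1 (show t * p.1 = 0 from htp)).resolve_left ht0, smul_zero]

/-- The homogeneous component of a vector. -/
def comp {N : ℕ} (e : ℕ) (t : ℕ) (v : Fin N → S) : Fin N → S :=
  if e ≤ t then fun b => MvPolynomial.homogeneousComponent (t - e) (v b) else 0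

theorem comp_mem {N : ℕ} (e t : ℕ) (v : Fin N → S) : comp e t v ∈ GrSyzLib.freeGr (fun _ : Fin N => (e : ℤ)) t := by
  refine mem_piece.2 fun b => ?_
  unfold comp
  split_ifs with h
  · rw [show ((t : ℤ) - e) = ((t - e : ℕ) : ℤ) by omega, GrSyzLib.mem_stdGr_natCast]
    exact MvPolynomial.homogeneousComponent_mem (n := t - e) (v b)
  · exact zero_mem _

theorem comp_of_mem {N : ℕ} {e t t' : ℕ} {v : Fin N → S} (hv : v ∈ GrSyzLib.freeGr (fun _ : Fin N => (e : ℤ)) t') :
    comp e t v = if t = t' then v else 0 := by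
  funext b
  have hb := mem_piece.1 hv b
  unfold comp
  by_cases h0 : v b = 0
  · split_ifs <;> simp [h0]
  have ht' : e ≤ t' := by
    by_contra hlt
    exact h0 (hpos ((t' : ℤ) - e) (by omega) (v b) hb)
  rw [show ((t' : ℤ) - e) = ((t' - e : ℕ) : ℤ) by omega, GrSyzLib.mem_stdGr_natCast] at hb
  split_ifs with h1 h2 h2
  · subst h2
    show MvPolynomial.homogeneousComponent (t - e) (v b) = v b
    rw [MvPolynomial.homogeneousComponent_of_mem (n := t - e) hb, if_pos rfl]
  · show MvPolynomial.homogeneousComponent (t - e) (v b) = 0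
    rw [MvPolynomial.homogeneousComponent_of_mem hb, if_neg (by omega)]
  · omega
  · rfl

theorem exists_sum_comp {N : ℕ} (e : ℕ) (v : Fin N → S) :
    ∃ B : Finset ℕ, v = ∑ t ∈ B, comp e t v := by
  let d := Finset.univ.sup fun b => (v b).totalDegree
  refine ⟨(Finset.range (d + 1)).image (· + e), ?_⟩
  rw [Finset.sum_image fun a _ b _ h => Nat.add_right_cancel h]
  funext b
  rw [Finset.sum_apply, ← Finset.sum_subset (Finset.range_mono
    (show (v b).totalDegree + 1 ≤ d + 1 by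
      have := Finset.le_sup (f := fun b => (v b).totalDegree) (Finset.mem_univ b); simp only [d]; omega))
    (fun q _ hq => ?_)]
  · refine ((MvPolynomial.sum_homogeneousComponent (v b)).symm).trans (Finset.sum_congr rfl fun q _ => ?_)
    simp [comp]
  · simp only [comp, le_add_iff_nonneg_left, zero_le, if_true, add_tsub_cancel_right]
    exact MvPolynomial.homogeneousComponent_eq_zero _ _ (by rw [Finset.mem_range] at hq; omega)

/-- A preimage of a homogeneous element may be chosen homogeneous. -/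
theorem exists_homogeneous_preimage {N N' e e' : ℕ} (u : (Fin N → S) →ₗ[S] (Fin N' → S))
    (hu : GrTildeLib.IsDeg (GrSyzLib.freeGr fun _ : Fin N => (e : ℤ)) (GrSyzLib.freeGr fun _ : Fin N' => (e' : ℤ)) u)
    {t : ℕ} {y : Fin N → S} {z : Fin N' → S} (hz : z ∈ GrSyzLib.freeGr (fun _ : Fin N' => (e' : ℤ)) t) (h : u y = z) :
    ∃ y' ∈ GrSyzLib.freeGr (fun _ : Fin N => (e : ℤ)) t, u y' = z := by
  refine ⟨comp e t y, comp_mem e t y, ?_⟩
  obtain ⟨B, hB⟩ := exists_sum_comp (k := k) (r := r) e y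
  have hadd : ∀ (e t : ℕ) {N : ℕ} (f : ℕ → Fin N → S),
      comp e t (∑ q ∈ B, f q) = ∑ q ∈ B, comp e t (f q) := by
    intro e t N f
    funext b
    by_cases he : e ≤ t <;> simp [comp, he, map_sum]
  have h1 : z = ∑ q ∈ B, comp e' t (u (comp e q y)) := by
    rw [← hadd, ← map_sum, ← hB, h, comp_of_mem hz, if_pos rfl]
  rw [Finset.sum_congr rfl fun q _ => comp_of_mem (hu q _ (comp_mem e q y)), Finset.sum_ite_eq] at h1
  by_cases htB : t ∈ B
  · rw [h1, if_pos htB]
  · rw [if_neg htB] at h1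
    suffices comp e t y = 0 by rw [this, map_zero, h1]
    rw [hB, hadd]
    refine Finset.sum_eq_zero fun q hq => ?_
    rw [comp_of_mem (comp_mem e q y), if_neg fun h : t = q => htB (h ▸ hq)]

section Sheaves


/-- The terms. -/
abbrev enSheaf (k : Type u) [Field k] (r m n i : ℕ) : (CohB1.ProjSpace r k).Modules :=
  GrSyzLib.freeSheaf k r (deg m n i)

/-- The differentials on sheaves. -/
def dSheaf (i : ℕ) : enSheaf k r m n (i + 1) ⟶ enSheaf k r m n i :=
  GrTildeLib.tmap 𝒜 _ _ _ (isDeg_dLin hL i) 0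

/-- The augmentation on sheaves. -/
def augSheaf : enSheaf k r m n 0 ⟶ GrTilde.tilde 𝒜 𝒜 0 :=
  GrTildeLib.tmap 𝒜 _ _ _ (isDeg_augLin hL) 0

theorem dSheaf_dSheaf (i : ℕ) : dSheaf hL (i + 1) ≫ dSheaf hL i = 0 :=
  GrTildeLib.tmap_comp_eq_zero _ _ _ _ 0 (dLin_dLin L i)

theorem dSheaf_augSheaf : dSheaf hL 0 ≫ augSheaf hL = 0 :=
  GrTildeLib.tmap_comp_eq_zero _ _ _ _ 0 (augLin_dLin L)

/-- A point where some maximal minor does not vanish. -/
def HasMinor (L : Fin m → Fin n → S) (x : Proj 𝒜) : Prop :=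
  ∃ e : Fin m → Fin n, (Matrix.of fun a b => L a (e b)).det ∉ x.asHomogeneousIdeal

include hL in
theorem minor_mem (e : Fin m → Fin n) : (Matrix.of fun a b => L a (e b)).det ∈ 𝒜 m := by
  rw [Matrix.det_apply]
  refine Submodule.sum_mem _ fun σ _ => ?_
  have h : ∏ b : Fin m, L (σ b) (e b) ∈ 𝒜 m := by
    have := SetLike.prod_mem_graded 𝒜 (F := (Finset.univ : Finset (Fin m))) (fun _ => 1)
      (fun b => L (σ b) (e b)) (fun b _ => GrSyzLib.mem_stdGr_natCast.1 (by simpa using hL (σ b) (e b)))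
    simpa using this
  rcases Int.units_eq_one_or (Equiv.Perm.sign σ) with h' | h' <;> simpa [h'] using h

theorem exact_at_dSheaf {x : Proj 𝒜} (hx : HasMinor L x) (i : ℕ) (z : (enSheaf k r m n (i + 1)).presheaf.stalk x)
    (hz : stalkLin (dSheaf hL i) x z = 0) : ∃ w, stalkLin (dSheaf hL (i + 1)) x w = z := by
  obtain ⟨e, he⟩ := hx
  refine GrTildeLib.exact_tmap_at _ (isDeg_dLin hL (i + 1)) _ (isDeg_dLin hL i) 0 (GrSyzLib.hasHomAnn_free _) x
    (fun d w hw hw0 => ?_) z hz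
  refine ⟨m * m, ⟨_, by simpa [mul_comm] using SetLike.pow_mem_graded m (minor_mem hL e)⟩,
    fun h => he (x.isPrime.mem_of_pow_mem m h), ?_⟩
  have h0 : dz L (emb (i + 1) w) = 0 := by rw [← emb_dLin, hw0, map_zero]
  obtain ⟨y, hy, hyw⟩ := exists_pow_smul_eq_dz (isSplit_minor L e) (inSlice_emb w) h0
  refine exists_homogeneous_preimage (e := m + (i + 1 + 1)) (e' := m + (i + 1)) (dLin L (i + 1))
    (isDeg_dLin hL (i + 1)) (y := res _ y) (SetLike.GradedSMul.smul_mem (A := 𝒜)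
      (by simpa [mul_comm] using SetLike.pow_mem_graded m (minor_mem hL e)) hw) ?_
  show res (i + 1) (dz L (emb (i + 1 + 1) (res _ y))) = _
  rw [emb_res hy, ← hyw, map_smul, res_emb]

theorem exact_at_augSheaf {x : Proj 𝒜} (hx : HasMinor L x) (z : (enSheaf k r m n 0).presheaf.stalk x)
    (hz : stalkLin (augSheaf hL) x z = 0) : ∃ w, stalkLin (dSheaf hL 0) x w = z := by
  obtain ⟨e, he⟩ := hx
  refine GrTildeLib.exact_tmap_at _ (isDeg_dLin hL 0) _ (isDeg_augLin hL) 0 hasHomAnn_self x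
    (fun d w hw hw0 => ?_) z hz
  refine ⟨m * m, ⟨_, by simpa [mul_comm] using SetLike.pow_mem_graded m (minor_mem hL e)⟩,
    fun h => he (x.isPrime.mem_of_pow_mem m h), ?_⟩
  obtain ⟨y, hy, hyw⟩ := exists_pow_smul_eq_dz_zero (isSplit_minor L e) (inSlice_emb w) hw0
  refine exists_homogeneous_preimage (e := m + 1) (e' := m + 0) (dLin L 0)
    (isDeg_dLin hL 0) (y := res _ y) (SetLike.GradedSMul.smul_mem (A := 𝒜)
      (by simpa [mul_comm] using SetLike.pow_mem_graded m (minor_mem hL e)) hw) ?_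
  show res 0 (dz L (emb 1 (res _ y))) = _
  rw [emb_res hy, ← hyw, map_smul, res_emb]

end Sheaves

end Groth.Agent.ENLib
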