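import Mathlib

/-!
# The Koszul complex on inverse monomials and the Eagon–Northcott complex

For rows `L j : Fin n → R` (`j : Fin m`) we consider functions of a multi-exponent `a : Fin m → ℕ` and a
subset of `Fin n`; the differential lowers the exponent and contracts with the rows.  An `m × m` minor `D`
gives a homotopy, so a power of `D` kills the homology.
-/

set_option autoImplicit false

namespace Groth.Agent.ENLib

variable {R : Type*} [CommRing R] {m n : ℕ}

/-- Functions on subsets. -/
abbrev Ext (R : Type*) (n : ℕ) : Type _ := Finset (Fin n) → R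

/-- The big complex. -/
abbrev Kz (R : Type*) (m n : ℕ) : Type _ := (Fin m → ℕ) → Ext R n

/-- The sign. -/
def sgn (s : Fin n) (T : Finset (Fin n)) : R := (-1) ^ (T.filter (· < s)).card

/-- Removing `s`. -/
def ann (s : Fin n) : Ext R n →ₗ[R] Ext R n where
  toFun f T := if s ∈ T then 0 else sgn s T * f (insert s T)
  map_add' f g := funext fun T => by by_cases h : s ∈ T <;> simp [h, mul_add]
  map_smul' c f := funext fun T => by by_cases h : s ∈ T <;> simp [h, mul_left_comm]

/-- Adding `s`. -/
def cre (s : Fin n) : Ext R n →ₗ[R] Ext R n where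
  toFun f T := if s ∈ T then sgn s T * f (T.erase s) else 0
  map_add' f g := funext fun T => by by_cases h : s ∈ T <;> simp [h, mul_add]
  map_smul' c f := funext fun T => by by_cases h : s ∈ T <;> simp [h, mul_left_comm]

theorem ann_apply (s : Fin n) (f : Ext R n) (T : Finset (Fin n)) :
    ann s f T = if s ∈ T then 0 else sgn s T * f (insert s T) := rfl

theorem cre_apply (s : Fin n) (f : Ext R n) (T : Finset (Fin n)) :
    cre s f T = if s ∈ T then sgn s T * f (T.erase s) else 0 := rfl

theorem sgn_insert (s t : Fin n) (T : Finset (Fin n)) (ht : t ∉ T) :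
    (sgn s (insert t T) : R) = (if t < s then -1 else 1) * sgn s T := by
  unfold sgn
  rw [Finset.filter_insert]
  by_cases h : t < s
  · rw [if_pos h, if_pos h, Finset.card_insert_of_notMem (by simp [ht]), pow_succ', ]
  · rw [if_neg h, if_neg h, one_mul]

theorem sgn_erase (s t : Fin n) (T : Finset (Fin n)) (ht : t ∈ T) :
    (sgn s (T.erase t) : R) = (if t < s then -1 else 1) * sgn s T := by
  have h := sgn_insert (R := R) s t (T.erase t) (T.notMem_erase t)
  rw [Finset.insert_erase ht] at h
  rw [h, ← mul_assoc]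
  split_ifs <;> simp

theorem sgn_self (s : Fin n) (T : Finset (Fin n)) : (sgn s T : R) * sgn s T = 1 := by
  rw [sgn, ← mul_pow]
  simp

theorem swap_sign (s t : Fin n) (h : s ≠ t) :
    (if t < s then (-1 : R) else 1) = -(if s < t then (-1 : R) else 1) := by
  rcases lt_or_gt_of_ne h with h' | h'
  · rw [if_neg h'.not_gt, if_pos h', neg_neg]
  · rw [if_pos h', if_neg h'.not_gt]

theorem ann_sq (s : Fin n) (f : Ext R n) : ann s (ann s f) = 0 :=
  funext fun T => by by_cases h : s ∈ T <;> simp [ann_apply, h]

theorem ann_ann (s t : Fin n) (f : Ext R n) : ann s (ann t f) = -ann t (ann s f) := by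
  funext T
  rw [Pi.neg_apply]
  rcases eq_or_ne s t with rfl | hne
  · rw [ann_sq]; simp
  by_cases hs : s ∈ T
  · simp [ann_apply, hs]
  by_cases ht : t ∈ T
  · simp [ann_apply, ht]
  simp only [ann_apply, hs, ht, if_false, Finset.mem_insert, hne.symm, hne, or_self]
  rw [sgn_insert t s T hs, sgn_insert s t T ht, Finset.insert_comm, swap_sign s t hne]
  ring

theorem ann_cre (s t : Fin n) (f : Ext R n) :
    ann s (cre t f) + cre t (ann s f) = if s = t then f else 0 := by
  funext T
  rw [Pi.add_apply]
  rcases eq_or_ne s t with rfl | hne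
  · rw [if_pos rfl]
    by_cases hs : s ∈ T
    · simp only [ann_apply, cre_apply, hs, if_true, zero_add, Finset.notMem_erase, if_false,
        Finset.insert_erase hs, sgn_erase s s T hs, lt_irrefl, one_mul, ← mul_assoc, sgn_self]
    · simp only [ann_apply, cre_apply, hs, if_false, add_zero, Finset.mem_insert_self, if_true,
        Finset.erase_insert hs, sgn_insert s s T hs, lt_irrefl, one_mul, ← mul_assoc, sgn_self]
  rw [if_neg hne, Pi.zero_apply]
  by_cases hs : s ∈ T
  · simp only [ann_apply, cre_apply, hs, if_true, zero_add]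
    by_cases ht : t ∈ T
    · simp [ht, Finset.mem_erase, hne, hs]
    · simp [ht]
  · by_cases ht : t ∈ T
    · simp only [ann_apply, cre_apply, hs, ht, if_false, if_true, Finset.mem_insert, Finset.mem_erase,
        or_true, and_false, Finset.erase_insert_of_ne hne, sgn_insert t s T hs, sgn_erase s t T ht]
      rw [swap_sign s t hne]
      ring
    · simp [ann_apply, cre_apply, hs, ht, hne.symm]

/-- Contraction with `c`. -/
def io (c : Fin n → R) : Ext R n →ₗ[R] Ext R n := ∑ s, c s • ann s

/-- Multiplication by `v`. -/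
def ee (v : Fin n → R) : Ext R n →ₗ[R] Ext R n := ∑ s, v s • cre s

theorem io_apply (c : Fin n → R) (f : Ext R n) : io c f = ∑ s, c s • ann s f := by simp [io]

theorem ee_apply (v : Fin n → R) (f : Ext R n) : ee v f = ∑ s, v s • cre s f := by simp [ee]

/-- A sum of an antisymmetric family vanishing on the diagonal. -/
theorem sum_antisymm {ι M : Type*} [AddCommGroup M] [DecidableEq ι] (S : Finset ι) (A : ι → ι → M)
    (h : ∀ i j, A i j = -A j i) (h0 : ∀ i, A i i = 0) : ∑ i ∈ S, ∑ j ∈ S, A i j = 0 := by
  induction S using Finset.induction with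
  | empty => simp
  | insert a S ha ih =>
    simp only [Finset.sum_insert ha, Finset.sum_add_distrib, h0, zero_add, ih, add_zero]
    rw [← Finset.sum_add_distrib]
    exact Finset.sum_eq_zero fun j _ => by rw [h a j, neg_add_cancel]

theorem io_sq (c : Fin n → R) (f : Ext R n) : io c (io c f) = 0 := by
  simp only [io_apply, map_sum, map_smul, Finset.smul_sum, smul_smul]
  refine (Finset.sum_congr rfl fun s _ => ?_).trans
    (sum_antisymm Finset.univ (fun s t => (c s * c t) • ann t (ann s f)) (fun s t => ?_) fun s => ?_)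
  · rfl
  · rw [ann_ann, mul_comm, smul_neg]
  · rw [ann_sq, smul_zero]

theorem io_io (c c' : Fin n → R) (f : Ext R n) : io c (io c' f) = -io c' (io c f) := by
  have h := io_sq (c + c') f
  have hadd : ∀ g : Ext R n, io (c + c') g = io c g + io c' g := fun g => by
    simp [io_apply, add_smul, Finset.sum_add_distrib]
  simp only [hadd, map_add, io_sq, zero_add, add_zero] at h
  exact eq_neg_of_add_eq_zero_left h

theorem io_ee (c v : Fin n → R) (f : Ext R n) :
    io c (ee v f) + ee v (io c f) = (∑ s, c s * v s) • f := by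
  simp only [io_apply, ee_apply, map_sum, map_smul, Finset.smul_sum, smul_smul]
  rw [Finset.sum_comm, ← Finset.sum_add_distrib]
  simp only [← Finset.sum_add_distrib, mul_comm (c _) (v _), ← smul_add, ann_cre]
  simp only [smul_ite, smul_zero, Finset.sum_ite_eq, Finset.mem_univ, if_true, Finset.sum_smul]

/-- A bump of the exponent. -/
def up (j : Fin m) (a : Fin m → ℕ) : Fin m → ℕ := Function.update a j (a j + 1)

/-- Lowering the exponent. -/
def down (j : Fin m) (a : Fin m → ℕ) : Fin m → ℕ := Function.update a j (a j - 1)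

theorem down_up_self (j : Fin m) (a : Fin m → ℕ) : down j (up j a) = a := by
  funext i; by_cases h : i = j <;> simp [down, up, h]

theorem up_down_self (j : Fin m) (a : Fin m → ℕ) (h : 0 < a j) : up j (down j a) = a := by
  funext i
  by_cases hi : i = j
  · subst hi; simp [up, down]; omega
  · simp [up, down, hi]

theorem down_up_of_ne {l j : Fin m} (h : l ≠ j) (a : Fin m → ℕ) : down j (up l a) = up l (down j a) := by
  funext i
  by_cases hi : i = j
  · subst hi; simp [up, down, h.symm]
  · by_cases hl : i = l
    · subst hl; simp [up, down, h]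
    · simp [up, down, hi, hl]

theorem up_comm (l j : Fin m) (a : Fin m → ℕ) : up l (up j a) = up j (up l a) := by
  funext i
  rcases eq_or_ne l j with rfl | h
  · rfl
  by_cases hi : i = j
  · subst hi; simp [up, h.symm]
  · by_cases hl : i = l
    · subst hl; simp [up, h]
    · simp [up, hi, hl]

theorem sum_up (j : Fin m) (a : Fin m → ℕ) : ∑ i, up j a i = (∑ i, a i) + 1 := by
  rw [up, Finset.sum_update_of_mem (Finset.mem_univ j)]
  have h := Finset.add_sum_erase Finset.univ a (Finset.mem_univ j)
  simp only [Finset.sdiff_singleton_eq_erase] at *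
  omega

theorem sum_down (j : Fin m) (a : Fin m → ℕ) (h : 0 < a j) : (∑ i, down j a i) + 1 = ∑ i, a i := by
  rw [← sum_up j, up_down_self j a h]

variable (L : Fin m → Fin n → R)

/-- The differential. -/
def dz : Kz R m n →ₗ[R] Kz R m n where
  toFun f a := ∑ j, io (L j) (f (up j a))
  map_add' f g := funext fun a => by simp [Finset.sum_add_distrib]
  map_smul' c f := funext fun a => by simp [Finset.smul_sum]

theorem dz_apply (f : Kz R m n) (a : Fin m → ℕ) : dz L f a = ∑ j, io (L j) (f (up j a)) := rfl

theorem dz_dz (f : Kz R m n) : dz L (dz L f) = 0 := by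
  funext a
  simp only [dz_apply, map_sum, Pi.zero_apply]
  exact sum_antisymm Finset.univ (fun j l => io (L j) (io (L l) (f (up l (up j a)))))
    (fun j l => by rw [io_io, up_comm]) fun j => io_sq _ _

/-- The homotopy attached to `v` in direction `j`. -/
def hz (v : Fin n → R) (j : Fin m) : Kz R m n →ₗ[R] Kz R m n where
  toFun f a := if 0 < a j then ee v (f (down j a)) else 0
  map_add' f g := funext fun a => by by_cases h : 0 < a j <;> simp [h]
  map_smul' c f := funext fun a => by by_cases h : 0 < a j <;> simp [h]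

/-- The defect of the homotopy. -/
def wz (v : Fin n → R) (j : Fin m) : Kz R m n →ₗ[R] Kz R m n where
  toFun f a := if a j = 0 then ee v (io (L j) (f a)) else 0
  map_add' f g := funext fun a => by by_cases h : a j = 0 <;> simp [h]
  map_smul' c f := funext fun a => by by_cases h : a j = 0 <;> simp [h]

theorem hz_apply (v : Fin n → R) (j : Fin m) (f : Kz R m n) (a : Fin m → ℕ) :
    hz v j f a = if 0 < a j then ee v (f (down j a)) else 0 := rfl

theorem wz_apply (v : Fin n → R) (j : Fin m) (f : Kz R m n) (a : Fin m → ℕ) :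
    wz L v j f a = if a j = 0 then ee v (io (L j) (f a)) else 0 := rfl

variable {L} {D : R} {ψ : Fin m → Fin n → R}

/-- `ψ` is `D` times a section of the map given by `L`. -/
def IsSplit (L : Fin m → Fin n → R) (D : R) (ψ : Fin m → Fin n → R) : Prop :=
  ∀ j l, ∑ s, L j s * ψ l s = if j = l then D else 0

variable (h : IsSplit L D ψ)
include h

theorem io_ee_self (j : Fin m) (f : Ext R n) : io (L j) (ee (ψ j) f) = D • f - ee (ψ j) (io (L j) f) := by
  rw [eq_sub_iff_add_eq, io_ee, h j j, if_pos rfl]

theorem io_ee_ne {l j : Fin m} (hne : l ≠ j) (f : Ext R n) : io (L l) (ee (ψ j) f) = -ee (ψ j) (io (L l) f) := by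
  rw [eq_neg_iff_add_eq_zero, io_ee, h l j, if_neg hne, zero_smul]

theorem homotopy (j : Fin m) (f : Kz R m n) :
    dz L (hz (ψ j) j f) + hz (ψ j) j (dz L f) = D • f - wz L (ψ j) j f := by
  funext a
  rw [Pi.add_apply, Pi.sub_apply, Pi.smul_apply, dz_apply, hz_apply, wz_apply, dz_apply,
    ← Finset.add_sum_erase _ _ (Finset.mem_univ j)]
  have hj : 0 < up j a j := by simp [up]
  rw [hz_apply, if_pos hj, down_up_self, io_ee_self h]
  by_cases ha : a j = 0
  · rw [if_neg (by omega), if_pos ha, add_zero, Finset.sum_eq_zero (fun l hl => ?_), add_zero]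
    rw [hz_apply, if_neg (by simp [up, (Finset.ne_of_mem_erase hl).symm, ha]), map_zero]
  · have ha' : 0 < a j := Nat.pos_of_ne_zero ha
    rw [if_pos ha', if_neg ha, sub_zero, map_sum,
      ← Finset.add_sum_erase _ _ (Finset.mem_univ j), up_down_self j a ha']
    rw [Finset.sum_congr rfl fun l hl => show io (L l) (hz (ψ j) j f (up l a)) =
        -ee (ψ j) (io (L l) (f (up l (down j a)))) by
      have hne := Finset.ne_of_mem_erase hl
      rw [hz_apply, if_pos (by simp [up, hne.symm, ha']), io_ee_ne h hne, down_up_of_ne hne]]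
    rw [Finset.sum_neg_distrib]
    abel

theorem wz_dz (j : Fin m) (f : Kz R m n) (hf : dz L f = 0) : dz L (wz L (ψ j) j f) = 0 := by
  have h1 := homotopy h j f
  rw [hf, map_zero, add_zero] at h1
  rw [show wz L (ψ j) j f = D • f - dz L (hz (ψ j) j f) by rw [h1]; abel,
    map_sub, map_smul, hf, dz_dz, smul_zero, sub_zero]

omit h

/-- Homogeneous elements of the `i`th term of the Eagon–Northcott complex. -/
def InSlice (i : ℕ) (f : Kz R m n) : Prop :=
  ∀ a T, f a T ≠ 0 → (∑ j, a j) = i ∧ T.card = m + i

theorem io_card {c : Fin n → R} {f : Ext R n} {T : Finset (Fin n)} (h : io c f T ≠ 0) :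
    ∃ T', f T' ≠ 0 ∧ T.card + 1 = T'.card := by
  rw [io_apply, Finset.sum_apply] at h
  obtain ⟨s, -, hs⟩ := Finset.exists_ne_zero_of_sum_ne_zero h
  rw [Pi.smul_apply, ann_apply] at hs
  by_cases hsT : s ∈ T
  · simp [hsT] at hs
  · rw [if_neg hsT] at hs
    exact ⟨insert s T, fun h0 => hs (by simp [h0]), (Finset.card_insert_of_notMem hsT).symm⟩

theorem ee_card {v : Fin n → R} {f : Ext R n} {T : Finset (Fin n)} (h : ee v f T ≠ 0) :
    ∃ T', f T' ≠ 0 ∧ T'.card + 1 = T.card := by
  rw [ee_apply, Finset.sum_apply] at h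
  obtain ⟨s, -, hs⟩ := Finset.exists_ne_zero_of_sum_ne_zero h
  rw [Pi.smul_apply, cre_apply] at hs
  by_cases hsT : s ∈ T
  · rw [if_pos hsT] at hs
    exact ⟨T.erase s, fun h0 => hs (by simp [h0]), Finset.card_erase_add_one hsT⟩
  · simp [hsT] at hs

theorem InSlice.dz {i : ℕ} {f : Kz R m n} (hf : InSlice (i + 1) f) (L : Fin m → Fin n → R) :
    InSlice i (dz L f) := by
  intro a T hne
  rw [dz_apply, Finset.sum_apply] at hne
  obtain ⟨j, -, hj⟩ := Finset.exists_ne_zero_of_sum_ne_zero hne
  obtain ⟨T', hT', hc⟩ := io_card hj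
  obtain ⟨h1, h2⟩ := hf _ _ hT'
  rw [sum_up] at h1
  omega

theorem InSlice.dz_zero {f : Kz R m n} (hf : InSlice 0 f) (L : Fin m → Fin n → R) : ENLib.dz L f = 0 := by
  funext a T
  rw [dz_apply, Finset.sum_apply]
  refine Finset.sum_eq_zero fun j _ => by_contra fun hne => ?_
  obtain ⟨T', hT', -⟩ := io_card hne
  have := (hf _ _ hT').1
  rw [sum_up] at this
  omega

theorem InSlice.hz {i : ℕ} {f : Kz R m n} (hf : InSlice i f) (v : Fin n → R) (j : Fin m) :
    InSlice (i + 1) (hz v j f) := by
  intro a T hne
  rw [hz_apply] at hne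
  by_cases ha : 0 < a j
  · rw [if_pos ha] at hne
    obtain ⟨T', hT', hc⟩ := ee_card hne
    obtain ⟨h1, h2⟩ := hf _ _ hT'
    have := sum_down j a ha
    omega
  · rw [if_neg ha] at hne; exact (hne rfl).elim

theorem InSlice.wz {i : ℕ} {f : Kz R m n} (hf : InSlice i f) (v : Fin n → R) (L : Fin m → Fin n → R) (j : Fin m) :
    InSlice i (wz L v j f) := by
  intro a T hne
  rw [wz_apply] at hne
  by_cases ha : a j = 0
  · rw [if_pos ha] at hne
    obtain ⟨T', hT', hc⟩ := ee_card hne
    obtain ⟨T'', hT'', hc'⟩ := io_card hT'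
    obtain ⟨h1, h2⟩ := hf _ _ hT''
    omega
  · rw [if_neg ha] at hne; exact (hne rfl).elim

theorem InSlice.smul {i : ℕ} {f : Kz R m n} (hf : InSlice i f) (c : R) : InSlice i (c • f) :=
  fun a T hne => hf a T fun h0 => hne (by simp [h0])

theorem InSlice.add {i : ℕ} {f g : Kz R m n} (hf : InSlice i f) (hg : InSlice i g) : InSlice i (f + g) :=
  fun a T hne => by
    by_cases h0 : f a T = 0
    · exact hg a T fun h1 => hne (by simp [h0, h1])
    · exact hf a T h0

theorem inSlice_zero (i : ℕ) : InSlice i (0 : Kz R m n) := fun _ _ hne => (hne rfl).elim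

/-- The composite defect along a list of directions. -/
def wList (L : Fin m → Fin n → R) (ψ : Fin m → Fin n → R) : List (Fin m) → Kz R m n → Kz R m n
  | [], f => f
  | j :: l, f => wList L ψ l (wz L (ψ j) j f)

include h in
theorem chain (l : List (Fin m)) : ∀ {i : ℕ} {f : Kz R m n}, InSlice i f → dz L f = 0 →
    ∃ y, InSlice (i + 1) y ∧ D ^ l.length • f = dz L y + wList L ψ l f := by
  induction l with
  | nil => exact fun {i f} _ _ => ⟨0, inSlice_zero _, by simp [wList]⟩
  | cons j l ih =>
    intro i f hf hd
    obtain ⟨y, hy, he⟩ := ih (hf.wz (ψ j) L j) (wz_dz h j f hd)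
    refine ⟨D ^ l.length • hz (ψ j) j f + y, ((hf.hz _ j).smul _).add hy, ?_⟩
    have h1 := homotopy h j f
    rw [hd, map_zero, add_zero] at h1
    rw [List.length_cons, pow_succ, mul_smul, wList,
      show D • f = dz L (hz (ψ j) j f) + wz L (ψ j) j f by rw [h1]; abel,
      smul_add, map_add, map_smul, he]
    abel

theorem wList_support (ψ : Fin m → Fin n → R) (l : List (Fin m)) :
    ∀ (f : Kz R m n) (a : Fin m → ℕ), wList L ψ l f a ≠ 0 → ∀ j ∈ l, a j = 0 := by
  induction l with
  | nil => simp
  | cons j l ih =>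
    intro f a hne j' hj'
    rcases List.mem_cons.1 hj' with rfl | hj'
    · by_contra ha
      refine hne ?_
      have key : ∀ (l : List (Fin m)) (g : Kz R m n), g a = 0 → wList L ψ l g a = 0 := by
        intro l
        induction l with
        | nil => exact fun g hg => hg
        | cons i l ih' =>
          intro g hg
          refine ih' _ ?_
          rw [wz_apply, hg, map_zero, map_zero, ite_self]
      refine key l _ ?_
      rw [wz_apply, if_neg ha]
    · exact ih _ a hne j' hj'

theorem wList_eq_zero (ψ : Fin m → Fin n → R) {i : ℕ} {f : Kz R m n} (hf : InSlice (i + 1) f) :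
    wList L ψ (List.finRange m) f = 0 := by
  have hs : ∀ (l : List (Fin m)) (g : Kz R m n), InSlice (i + 1) g → InSlice (i + 1) (wList L ψ l g) := by
    intro l
    induction l with
    | nil => exact fun g hg => hg
    | cons j l ih => exact fun g hg => ih _ (hg.wz _ L j)
  funext a T
  by_contra hne
  have h1 := (hs _ f hf a T hne).1
  have h2 := wList_support ψ _ f a (fun h0 => hne (congrFun h0 T))
  rw [Finset.sum_eq_zero fun j _ => h2 j (List.mem_finRange j)] at h1
  omega

/-- Iterated contraction with the rows in a list. -/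
def ioList (L : Fin m → Fin n → R) : List (Fin m) → Ext R n →ₗ[R] Ext R n
  | [] => LinearMap.id
  | j :: l => ioList L l ∘ₗ io (L j)

theorem ioList_cons (j : Fin m) (l : List (Fin m)) (f : Ext R n) :
    ioList L (j :: l) f = ioList L l (io (L j) f) := rfl

include h in
theorem ioList_ee (j : Fin m) (l : List (Fin m)) (hj : j ∉ l) :
    ∀ f : Ext R n, ioList L l (ee (ψ j) f) = (-1 : R) ^ l.length • ee (ψ j) (ioList L l f) := by
  induction l with
  | nil => intro f; simp [ioList]
  | cons i l ih =>
    intro f
    have hne : i ≠ j := fun e => hj (e ▸ List.mem_cons_self)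
    rw [ioList_cons, io_ee_ne h hne, map_neg, ih (fun hm => hj (List.mem_cons_of_mem _ hm)),
      ioList_cons, List.length_cons, pow_succ', neg_one_mul, neg_smul]

include h in
theorem wList_zero_of_ioList : ∀ (l : List (Fin m)), l.Nodup → ∀ f : Kz R m n, InSlice 0 f →
    ioList L l (f 0) = 0 → wList L ψ l f = 0 := by
  intro l
  induction l with
  | nil =>
    intro _ f hf h0
    funext a T
    by_contra hne
    have h1 := (hf a T hne).1
    have ha : a = 0 := funext fun j => by
      have := Finset.single_le_sum (fun i _ => Nat.zero_le (a i)) (Finset.mem_univ j)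
      simp; omega
    subst ha
    exact hne (congrFun h0 T)
  | cons j l ih =>
    intro hnd f hf h0
    rw [List.nodup_cons] at hnd
    refine ih hnd.2 _ (hf.wz _ L j) ?_
    rw [wz_apply, if_pos (show (0 : Fin m → ℕ) j = 0 from rfl), ioList_ee h j l hnd.1, ← ioList_cons, h0, map_zero, smul_zero]

theorem ioList_io (i : Fin m) : ∀ (l : List (Fin m)), i ∈ l → ∀ f : Ext R n, ioList L l (io (L i) f) = 0 := by
  intro l
  induction l with
  | nil => simp
  | cons j l ih =>
    intro hi f
    rw [ioList_cons]
    rcases List.mem_cons.1 hi with rfl | hi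
    · rw [io_sq, map_zero]
    · rw [io_io, map_neg, ih hi, neg_zero]

/-- The augmentation. -/
def aug (L : Fin m → Fin n → R) : Kz R m n →ₗ[R] R :=
  LinearMap.proj ∅ ∘ₗ ioList L (List.finRange m) ∘ₗ LinearMap.proj 0

theorem aug_apply (f : Kz R m n) : aug L f = ioList L (List.finRange m) (f 0) ∅ := rfl

theorem aug_dz (f : Kz R m n) : aug L (dz L f) = 0 := by
  rw [aug_apply, dz_apply, map_sum, Finset.sum_apply]
  exact Finset.sum_eq_zero fun j _ => by rw [ioList_io j _ (List.mem_finRange j)]; rfl

include h in
/-- A power of a minor kills the homology in positive degrees. -/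
theorem exists_pow_smul_eq_dz {i : ℕ} {f : Kz R m n} (hf : InSlice (i + 1) f) (hd : dz L f = 0) :
    ∃ y, InSlice (i + 1 + 1) y ∧ D ^ m • f = dz L y := by
  obtain ⟨y, hy, he⟩ := chain h (List.finRange m) hf hd
  exact ⟨y, hy, by rwa [List.length_finRange, wList_eq_zero ψ hf, add_zero] at he⟩

theorem ioList_card : ∀ (l : List (Fin m)) (g : Ext R n) (T : Finset (Fin n)), ioList L l g T ≠ 0 →
    ∃ T', g T' ≠ 0 ∧ T.card + l.length = T'.card := by
  intro l
  induction l with
  | nil => exact fun g T hne => ⟨T, hne, rfl⟩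
  | cons j l ih =>
    intro g T hne
    obtain ⟨T', hT', hc⟩ := ih _ T hne
    obtain ⟨T'', hT'', hc'⟩ := io_card hT'
    exact ⟨T'', hT'', by simp only [List.length_cons]; omega⟩

include h in
/-- A power of a minor kills the homology at the augmentation. -/
theorem exists_pow_smul_eq_dz_zero {f : Kz R m n} (hf : InSlice 0 f) (ha : aug L f = 0) :
    ∃ y, InSlice 1 y ∧ D ^ m • f = dz L y := by
  obtain ⟨y, hy, he⟩ := chain h (List.finRange m) hf (hf.dz_zero L)
  refine ⟨y, hy, ?_⟩
  rwa [List.length_finRange, wList_zero_of_ioList h _ (List.nodup_finRange m) f hf ?_, add_zero] at he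
  funext T
  by_contra hne
  obtain ⟨T', hT', hc⟩ := ioList_card _ _ T hne
  have h1 := (hf 0 T' hT').2
  rw [List.length_finRange] at hc
  obtain rfl : T = ∅ := Finset.card_eq_zero.1 (by omega)
  exact hne ha

omit h

/-- The splitting attached to a square submatrix. -/
def minorSplit (L : Fin m → Fin n → R) (e : Fin m → Fin n) : Fin m → Fin n → R :=
  fun l s => ∑ p, if e p = s then (Matrix.of fun j q => L j (e q)).adjugate p l else 0

theorem isSplit_minor (L : Fin m → Fin n → R) (e : Fin m → Fin n) :
    IsSplit L (Matrix.of fun j q => L j (e q)).det (minorSplit L e) := by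
  intro j l
  have h := congrFun (congrFun (Matrix.mul_adjugate (Matrix.of fun j q => L j (e q))) j) l
  rw [Matrix.mul_apply, Matrix.smul_apply, Matrix.one_apply, smul_eq_mul, mul_ite, mul_one, mul_zero] at h
  rw [← h]
  simp only [minorSplit, Finset.mul_sum, mul_ite, mul_zero]
  rw [Finset.sum_comm]
  simp

/-- The basis vector of a subset. -/
def dlt (T : Finset (Fin n)) : Ext R n := fun T' => if T' = T then 1 else 0

theorem io_dlt (c : Fin n → R) (T : Finset (Fin n)) :
    io c (dlt T) = ∑ s ∈ T, (c s * sgn s (T.erase s)) • dlt (T.erase s) := by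
  classical
  rw [io_apply, ← Finset.sum_subset (Finset.subset_univ T) (fun s _ hs => ?_)]
  · refine Finset.sum_congr rfl fun s hs => funext fun U => ?_
    simp only [Pi.smul_apply, ann_apply, dlt, smul_eq_mul]
    by_cases hU : U = T.erase s
    · subst hU; simp [Finset.insert_erase hs]
    · rw [if_neg hU, mul_zero]
      by_cases hsU : s ∈ U
      · simp [hsU]
      · rw [if_neg hsU, if_neg fun e => hU (by rw [← e, Finset.erase_insert hsU]), mul_zero, mul_zero]
  · funext U
    simp only [Pi.smul_apply, ann_apply, dlt, smul_eq_mul, Pi.zero_apply]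
    by_cases hsU : s ∈ U
    · simp [hsU]
    · rw [if_neg hsU, if_neg fun e : insert s U = T => hs (e ▸ Finset.mem_insert_self s U)]
      simp

theorem ioList_dlt : ∀ (p : ℕ) (f : Fin p → Fin m) (e : Fin p → Fin n), StrictMono e →
    ioList L (List.ofFn f) (dlt (Finset.univ.image e)) ∅ = (Matrix.of fun a b => L (f a) (e b)).det := by
  classical
  intro p
  induction p with
  | zero => intro f e _; simp [ioList, dlt]
  | succ p ih =>
    intro f e he
    rw [List.ofFn_succ, ioList_cons, io_dlt, map_sum, Finset.sum_apply,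
      Finset.sum_image fun a _ b _ hab => he.injective hab, Matrix.det_succ_row_zero]
    refine Finset.sum_congr rfl fun i _ => ?_
    have e1 : (Finset.univ.image e).erase (e i) = Finset.univ.image (e ∘ i.succAbove) := by
      ext s
      simp only [Finset.mem_erase, Finset.mem_image, Finset.mem_univ, true_and, Function.comp_apply]
      constructor
      · rintro ⟨hne, q, rfl⟩
        obtain ⟨q', rfl⟩ := Fin.exists_succAbove_eq (fun e' : q = i => hne (by rw [e']))
        exact ⟨q', rfl⟩
      · rintro ⟨q, rfl⟩
        exact ⟨fun e' => Fin.succAbove_ne i q (he.injective e'), _, rfl⟩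
    have e2 : (sgn (e i) ((Finset.univ.image e).erase (e i)) : R) = (-1) ^ (i : ℕ) := by
      unfold sgn
      congr 1
      rw [show ((Finset.univ.image e).erase (e i)).filter (· < e i) = (Finset.Iio i).image e by
        ext s
        simp only [Finset.mem_filter, Finset.mem_erase, Finset.mem_image, Finset.mem_univ, true_and,
          Finset.mem_Iio]
        constructor
        · rintro ⟨⟨-, q, rfl⟩, hq⟩; exact ⟨q, he.lt_iff_lt.1 hq, rfl⟩
        · rintro ⟨q, hq, rfl⟩; exact ⟨⟨(he hq).ne, q, rfl⟩, he hq⟩,
        Finset.card_image_of_injective _ he.injective, Fin.card_Iio]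
    rw [map_smul, Pi.smul_apply, smul_eq_mul, e2, e1, ih _ _ (he.comp (Fin.strictMono_succAbove i))]
    simp only [Matrix.of_apply, Matrix.submatrix, Function.comp_apply]
    ring

theorem aug_single (e : Fin m → Fin n) (he : StrictMono e) :
    aug L (fun a => if a = 0 then dlt (Finset.univ.image e) else 0) = (Matrix.of fun a b => L a (e b)).det := by
  rw [aug_apply, if_pos rfl, ← List.ofFn_id, ioList_dlt m id e he]
  rfl

end Groth.Agent.ENLib
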