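import Groth.Agent.ENLib.Fitt
import Groth.Agent.CMRegLib.Cx
import Groth.Agent.S12910

/-!
# Regularity of the ideal of maximal minors of a matrix of linear forms
-/

set_option autoImplicit false
set_option linter.style.haveILetI false
set_option backward.isDefEq.respectTransparency false
set_option maxHeartbeats 800000

universe u

open CategoryTheory CategoryTheory.Limits TopologicalSpace AlgebraicGeometry Opposite
open Groth.Agent.PullbackMod Groth.Agent.DCohLib Groth.Agent.ParaFLib Groth.Agent.ProjTwist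

noncomputable section

namespace Groth.Agent.ENLib

variable {k : Type u} [Field k] {r m n : ℕ} {L : Fin m → Fin n → MvPolynomial (Fin (r + 1)) k} (hL : IsLinear L)

/-- The terms of the augmented complex. -/
def cxX (k : Type u) [Field k] (r m n : ℕ) : ℕ → (CohB1.ProjSpace r k).Modules
  | 0 => Coh.structureModule (CohB1.ProjSpace r k)
  | s + 1 => enSheaf k r m n s

/-- The differentials of the augmented complex. -/
def cxD : ∀ s, cxX k r m n (s + 1) ⟶ cxX k r m n s
  | 0 => augO hL
  | s + 1 => dSheaf hL s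

theorem cxD_comp : ∀ s, cxD hL (s + 1) ≫ cxD hL s = 0
  | 0 => by
    show dSheaf hL 0 ≫ augO hL = 0
    rw [augO, ← Category.assoc, dSheaf_augSheaf, zero_comp]
  | s + 1 => dSheaf_dSheaf hL s

/-- The augmented complex. -/
def cx : ChainComplex ((CohB1.ProjSpace r k).Modules) ℕ := ChainComplex.of (cxX k r m n) (cxD hL) (cxD_comp hL)

theorem augO_eq_zero_iff {x : Proj (CohB1.polyGrading r k)} (z : (enSheaf k r m n 0).presheaf.stalk x)
    (hz : stalkLin (augO hL) x z = 0) : stalkLin (augSheaf hL) x z = 0 := by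
  haveI : IsIso (ProjCoh.unitToTwist (CohB1.polyGrading r k)) := ProjCoh.isIso_unitToTwist
  have h : augO hL ≫ ProjCoh.unitToTwist (CohB1.polyGrading r k) ≫
      (GrTildeLib.twistIso (CohB1.polyGrading r k) 0).hom = augSheaf hL := by
    simp [augO]
  rw [← h, stalkLin_comp, LinearMap.comp_apply, hz, map_zero]

theorem stalk_exact_cxD {x : Proj (CohB1.polyGrading r k)} (hx : HasMinor L x) :
    ∀ (s : ℕ) (z : (cxX k r m n (s + 1)).presheaf.stalk x), stalkLin (cxD hL s) x z = 0 →
      ∃ w, stalkLin (cxD hL (s + 1)) x w = z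
  | 0, z, hz => exact_at_augSheaf hL hx z (augO_eq_zero_iff hL z hz)
  | s + 1, z, hz => exact_at_dSheaf hL hx s z hz

theorem support_homology {Z : Set (CohB1.ProjSpace r k)} (hZ : ∀ x, x ∉ Z → HasMinor L x) (s : ℕ) :
    CohB1.support ((cx hL).homology (s + 1)) ⊆ Z := by
  intro x hx
  by_contra hxZ
  apply hx
  let f := (cx hL).d (s + 2) (s + 1)
  let g := (cx hL).d (s + 1) s
  let l : (cx hL).X (s + 2) ⟶ kernel g := kernel.lift g f ((cx hL).d_comp_d _ _ _)
  have hH : (cx hL).homology (s + 1) ≅ cokernel l :=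
    (cx hL).homologyIsoSc' (s + 2) (s + 1) s (by simp) (by simp) ≪≫
      (ShortComplex.LeftHomologyData.ofHasKernelOfHasCokernel ((cx hL).sc' (s + 2) (s + 1) s)).homologyIso ≪≫
      Iso.refl _
  haveI : Subsingleton ((cokernel l).presheaf.stalk x) := by
    refine subsingleton_of_forall_eq 0 fun z => ?_
    obtain ⟨w, rfl⟩ := (epi_iff_stalk (cokernel.π l)).1 inferInstance x z
    have hw : stalkLin g x (stalkLin (kernel.ι g) x w) = 0 := HilbObsLib.stalk_kernel_ι_comp g x w
    have hg : g = cxD hL s := ChainComplex.of_d _ _ s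
    have hf : f = cxD hL (s + 1) := ChainComplex.of_d _ _ (s + 1)
    obtain ⟨y, hy⟩ := stalk_exact_cxD hL (hZ x hxZ) s (stalkLin (kernel.ι g) x w) (by rw [← hg]; exact hw)
    have h2 : stalkLin l x y = w := by
      refine HilbObsLib.stalk_kernel_ι_inj g x ?_
      rw [← LinearMap.comp_apply, ← stalkLin_comp, kernel.lift_ι, hf]
      exact hy
    rw [← h2, ← LinearMap.comp_apply, ← stalkLin_comp, cokernel.condition, stalkLin_zero']
  exact ((isIso_iff_stalk hH.hom).1 inferInstance x).1.subsingleton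

theorem isZero_enSheaf {s : ℕ} (hs : n < m + s) : IsZero (enSheaf k r m n s) := by
  haveI : IsEmpty (Fin (rk m n s)) := ⟨fun b => by
    have h := card_setOf b
    have h' := Finset.card_le_univ (setOf' b)
    rw [Fintype.card_fin] at h'
    omega⟩
  exact GrTildeLib.isZero_tilde_of_subsingleton 0

theorem regular_image (hm : 1 ≤ m)
    {Z : Set (CohB1.ProjSpace r k)} (hZ : ∀ x, x ∉ Z → HasMinor L x) (hZd : topologicalKrullDim Z ≤ 1) :
    Curv2.IsMRegular k r (Abelian.image (augO hL)) (m : ℤ) := by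
  haveI := CMRegLib.isNoetherian_projSpace (k := k) (n := r)
  have hcoh : ∀ s, Coh.IsCoh ((cx hL).X s)
    | 0 => DevLib.isCoh_structureModule _
    | s + 1 => GrSyzLib.isCoh_freeSheaf _
  have hreg : ∀ s : ℕ, Curv2.IsMRegular k r ((cx hL).X s) (((m : ℤ) - 1) + s)
    | 0 => fun i hi hir => CMRegLib.HT_structure _ hi (by push_cast; omega)
    | s + 1 => fun i hi hir => GrSyzLib.HT_free (deg m n s) _ hi fun b => Or.inl (by
        simp only [deg]; push_cast; omega)
  have h := S12910.result k r (cx hL) (n + 1) (fun s hs => by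
      obtain ⟨s, rfl⟩ : ∃ s', s = s' + 1 := ⟨s - 1, by omega⟩
      exact isZero_enSheaf (by omega)) hcoh ((m : ℤ) - 1) hreg
    (fun i hi => by
      obtain ⟨s, rfl⟩ : ∃ s', i = s' + 1 := ⟨i - 1, by omega⟩
      exact (Topology.IsEmbedding.inclusion (support_homology hL hZ s)).isInducing.topologicalKrullDim_le.trans hZd)
  have h2 := h.2
  rw [sub_add_cancel, show (cx hL).d 1 0 = cxD hL 0 from by exact ChainComplex.of_d (cxX k r m n) (cxD hL) 0] at h2
  exact h2

variable (φ : (∐ fun _ : Fin n => Twist.twist (CohB1.polyGrading r k) (-1)) ⟶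
  FlatMod.freeMod (Proj (CohB1.polyGrading r k)) m)

/-- The main theorem. -/
theorem regular_fitting
    (hdim : topologicalKrullDim
      ((Fitt.sheafIdeal (cokernel φ) 0).support : Set (Proj (CohB1.polyGrading r k))) ≤ 1) :
    Curv2.IsMRegular k r (ClSub.idealMod (Fitt.sheafIdeal (cokernel φ) 0)) (m : ℤ) := by
  let I := Fitt.sheafIdeal (cokernel φ) 0
  haveI : Mono (ClSub.idealModι I) := inferInstanceAs (Mono (kernel.ι _))
  rcases Nat.eq_zero_or_pos m with hm | hm
  · have hbij : ∀ x, Function.Bijective (stalkLin (ClSub.idealModι I) x) := fun x => by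
      refine ⟨(mono_iff_stalk _).1 inferInstance x, fun z => ?_⟩
      obtain ⟨q, rfl⟩ := (bijective_oneG x).2 z
      refine (HilbObsLib.mem_range_idealModι I x q).2 ?_
      obtain ⟨i, hi⟩ := exists_mem_chartU x
      rw [stalkIdeal_fitt φ hi]
      subst hm
      rw [← mul_one q]
      refine Ideal.mul_mem_left _ _ (Ideal.subset_span ?_)
      exact ⟨fun a => a.elim0, Matrix.det_fin_zero.symm⟩
    haveI : IsIso (ClSub.idealModι I) := (isIso_iff_stalk _).2 hbij
    intro i hi hir
    exact CMRegLib.HT.iso (asIso (ClSub.idealModι I)).symm (CMRegLib.HT_structure _ hi (by omega))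
  have hrange : ∀ (x : Proj (CohB1.polyGrading r k)) (q : (Proj (CohB1.polyGrading r k)).presheaf.stalk x),
      (∃ z, stalkLin (augO (isLinear_forms φ)) x z = q • oneG x) ↔ q ∈ IntMult.stalkIdeal I x := fun x q => by
    obtain ⟨i, hi⟩ := exists_mem_chartU x
    rw [stalkIdeal_fitt φ hi]
    exact range_augO (forms φ) (isLinear_forms φ) hi q
  have hw : augO (isLinear_forms φ) ≫ ClSub.toSubscheme I = 0 := by
    refine hom_ext_stalk fun x => LinearMap.ext fun z => ?_
    obtain ⟨q, hq⟩ := (bijective_oneG x).2 (stalkLin (augO (isLinear_forms φ)) x z)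
    obtain ⟨w, hw⟩ := (HilbObsLib.mem_range_idealModι I x q).2 ((hrange x q).1 ⟨z, hq.symm⟩)
    simp only at hq
    rw [stalkLin_zero', stalkLin_comp, LinearMap.comp_apply, ← hq, ← hw]
    exact HilbObsLib.stalk_kernel_ι_comp (ClSub.toSubscheme I) x w
  let e : enSheaf k r m n 0 ⟶ ClSub.idealMod I := kernel.lift _ (augO (isLinear_forms φ)) hw
  have he : e ≫ ClSub.idealModι I = augO (isLinear_forms φ) := kernel.lift_ι _ _ _
  haveI : Epi e := (epi_iff_stalk _).2 fun x w => by
    obtain ⟨q, hq⟩ := (bijective_oneG x).2 (stalkLin (ClSub.idealModι I) x w)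
    obtain ⟨z, hz⟩ := (hrange x q).2 ((HilbObsLib.mem_range_idealModι I x q).1 ⟨w, hq.symm⟩)
    simp only at hq
    refine ⟨z, (mono_iff_stalk (ClSub.idealModι I)).1 inferInstance x ?_⟩
    rw [← LinearMap.comp_apply, ← stalkLin_comp, he, hz, hq]
  obtain ⟨iso⟩ := CMRegLib.nonempty_iso_image (augO (isLinear_forms φ)) e (ClSub.idealModι I) he
  intro i hi hir
  exact CMRegLib.HT.iso iso.symm
    (regular_image (isLinear_forms φ) hm
      (Z := ((I.support : Set (Proj (CohB1.polyGrading r k))))) (fun x hx => hasMinor_of_notMem φ hx) hdim i hi hir)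

end Groth.Agent.ENLib
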